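import Cfsg.Agent.Helper19.Fi24Q.AuxT

set_option autoImplicit false
set_option linter.all false
set_option maxRecDepth 1000000
set_option maxHeartbeats 0

namespace Cfsg.Agent.Helper19.Fi24Q

theorem cPInv0 : PInv (0 * 1000) 1000 := by decide +kernel
theorem cPPar0 : PPar (0 * 1000) 1000 := by decide +kernel
theorem cPCox0 : PCox (0 * 1000) 1000 := by decide +kernel
theorem cPZa0 : PZa (0 * 1000) 1000 := by decide +kernel
theorem cPZp0 : PZp (0 * 1000) 1000 := by decide +kernel
theorem cPCa0 : PCa (0 * 1000) 1000 := by decide +kernel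
theorem cPCp0 : PCp (0 * 1000) 1000 := by decide +kernel
theorem cPInv1 : PInv (1 * 1000) 1000 := by decide +kernel
theorem cPPar1 : PPar (1 * 1000) 1000 := by decide +kernel
theorem cPCox1 : PCox (1 * 1000) 1000 := by decide +kernel
theorem cPZa1 : PZa (1 * 1000) 1000 := by decide +kernel
theorem cPZp1 : PZp (1 * 1000) 1000 := by decide +kernel
theorem cPCa1 : PCa (1 * 1000) 1000 := by decide +kernel
theorem cPCp1 : PCp (1 * 1000) 1000 := by decide +kernel
theorem cPInv2 : PInv (2 * 1000) 1000 := by decide +kernel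
theorem cPPar2 : PPar (2 * 1000) 1000 := by decide +kernel
theorem cPCox2 : PCox (2 * 1000) 1000 := by decide +kernel
theorem cPZa2 : PZa (2 * 1000) 1000 := by decide +kernel
theorem cPZp2 : PZp (2 * 1000) 1000 := by decide +kernel
theorem cPCa2 : PCa (2 * 1000) 1000 := by decide +kernel
theorem cPCp2 : PCp (2 * 1000) 1000 := by decide +kernel
theorem cPInv3 : PInv (3 * 1000) 1000 := by decide +kernel
theorem cPPar3 : PPar (3 * 1000) 1000 := by decide +kernel
theorem cPCox3 : PCox (3 * 1000) 1000 := by decide +kernel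
theorem cPZa3 : PZa (3 * 1000) 1000 := by decide +kernel
theorem cPZp3 : PZp (3 * 1000) 1000 := by decide +kernel
theorem cPCa3 : PCa (3 * 1000) 1000 := by decide +kernel
theorem cPCp3 : PCp (3 * 1000) 1000 := by decide +kernel

end Cfsg.Agent.Helper19.Fi24Q
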