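import Cfsg.Agent.Helper19.Fi24Q.AuxT

set_option autoImplicit false
set_option linter.all false
set_option maxRecDepth 1000000
set_option maxHeartbeats 0

namespace Cfsg.Agent.Helper19.Fi24Q

theorem cPInv4 : PInv (4 * 1000) 1000 := by decide +kernel
theorem cPPar4 : PPar (4 * 1000) 1000 := by decide +kernel
theorem cPCox4 : PCox (4 * 1000) 1000 := by decide +kernel
theorem cPZa4 : PZa (4 * 1000) 1000 := by decide +kernel
theorem cPZp4 : PZp (4 * 1000) 1000 := by decide +kernel
theorem cPCa4 : PCa (4 * 1000) 1000 := by decide +kernel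
theorem cPCp4 : PCp (4 * 1000) 1000 := by decide +kernel
theorem cPInv5 : PInv (5 * 1000) 1000 := by decide +kernel
theorem cPPar5 : PPar (5 * 1000) 1000 := by decide +kernel
theorem cPCox5 : PCox (5 * 1000) 1000 := by decide +kernel
theorem cPZa5 : PZa (5 * 1000) 1000 := by decide +kernel
theorem cPZp5 : PZp (5 * 1000) 1000 := by decide +kernel
theorem cPCa5 : PCa (5 * 1000) 1000 := by decide +kernel
theorem cPCp5 : PCp (5 * 1000) 1000 := by decide +kernel
theorem cPInv6 : PInv (6 * 1000) 1000 := by decide +kernel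
theorem cPPar6 : PPar (6 * 1000) 1000 := by decide +kernel
theorem cPCox6 : PCox (6 * 1000) 1000 := by decide +kernel
theorem cPZa6 : PZa (6 * 1000) 1000 := by decide +kernel
theorem cPZp6 : PZp (6 * 1000) 1000 := by decide +kernel
theorem cPCa6 : PCa (6 * 1000) 1000 := by decide +kernel
theorem cPCp6 : PCp (6 * 1000) 1000 := by decide +kernel
theorem cPInv7 : PInv (7 * 1000) 1000 := by decide +kernel
theorem cPPar7 : PPar (7 * 1000) 1000 := by decide +kernel
theorem cPCox7 : PCox (7 * 1000) 1000 := by decide +kernel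
theorem cPZa7 : PZa (7 * 1000) 1000 := by decide +kernel
theorem cPZp7 : PZp (7 * 1000) 1000 := by decide +kernel
theorem cPCa7 : PCa (7 * 1000) 1000 := by decide +kernel
theorem cPCp7 : PCp (7 * 1000) 1000 := by decide +kernel

end Cfsg.Agent.Helper19.Fi24Q
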