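import Cfsg.Agent.Helper19.Fi24Q.AuxT

set_option autoImplicit false
set_option linter.all false
set_option maxRecDepth 1000000
set_option maxHeartbeats 0

namespace Cfsg.Agent.Helper19.Fi24Q

theorem cPInv40 : PInv (40 * 1000) 1000 := by decide +kernel
theorem cPPar40 : PPar (40 * 1000) 1000 := by decide +kernel
theorem cPCox40 : PCox (40 * 1000) 1000 := by decide +kernel
theorem cPZa40 : PZa (40 * 1000) 1000 := by decide +kernel
theorem cPZp40 : PZp (40 * 1000) 1000 := by decide +kernel
theorem cPCa40 : PCa (40 * 1000) 1000 := by decide +kernel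
theorem cPCp40 : PCp (40 * 1000) 1000 := by decide +kernel
theorem cPInv41 : PInv (41 * 1000) 1000 := by decide +kernel
theorem cPPar41 : PPar (41 * 1000) 1000 := by decide +kernel
theorem cPCox41 : PCox (41 * 1000) 1000 := by decide +kernel
theorem cPZa41 : PZa (41 * 1000) 1000 := by decide +kernel
theorem cPZp41 : PZp (41 * 1000) 1000 := by decide +kernel
theorem cPCa41 : PCa (41 * 1000) 1000 := by decide +kernel
theorem cPCp41 : PCp (41 * 1000) 1000 := by decide +kernel
theorem cPInv42 : PInv (42 * 1000) 1000 := by decide +kernel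
theorem cPPar42 : PPar (42 * 1000) 1000 := by decide +kernel
theorem cPCox42 : PCox (42 * 1000) 1000 := by decide +kernel
theorem cPZa42 : PZa (42 * 1000) 1000 := by decide +kernel
theorem cPZp42 : PZp (42 * 1000) 1000 := by decide +kernel
theorem cPCa42 : PCa (42 * 1000) 1000 := by decide +kernel
theorem cPCp42 : PCp (42 * 1000) 1000 := by decide +kernel
theorem cPInv43 : PInv (43 * 1000) 1000 := by decide +kernel
theorem cPPar43 : PPar (43 * 1000) 1000 := by decide +kernel
theorem cPCox43 : PCox (43 * 1000) 1000 := by decide +kernel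
theorem cPZa43 : PZa (43 * 1000) 1000 := by decide +kernel
theorem cPZp43 : PZp (43 * 1000) 1000 := by decide +kernel
theorem cPCa43 : PCa (43 * 1000) 1000 := by decide +kernel
theorem cPCp43 : PCp (43 * 1000) 1000 := by decide +kernel

end Cfsg.Agent.Helper19.Fi24Q
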