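import Cfsg.Agent.Helper19.Fi24Q.AuxT

set_option autoImplicit false
set_option linter.all false
set_option maxRecDepth 1000000
set_option maxHeartbeats 0

namespace Cfsg.Agent.Helper19.Fi24Q

theorem cPInv44 : PInv (44 * 1000) 1000 := by decide +kernel
theorem cPPar44 : PPar (44 * 1000) 1000 := by decide +kernel
theorem cPCox44 : PCox (44 * 1000) 1000 := by decide +kernel
theorem cPZa44 : PZa (44 * 1000) 1000 := by decide +kernel
theorem cPZp44 : PZp (44 * 1000) 1000 := by decide +kernel
theorem cPCa44 : PCa (44 * 1000) 1000 := by decide +kernel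
theorem cPCp44 : PCp (44 * 1000) 1000 := by decide +kernel
theorem cPInv45 : PInv (45 * 1000) 1000 := by decide +kernel
theorem cPPar45 : PPar (45 * 1000) 1000 := by decide +kernel
theorem cPCox45 : PCox (45 * 1000) 1000 := by decide +kernel
theorem cPZa45 : PZa (45 * 1000) 1000 := by decide +kernel
theorem cPZp45 : PZp (45 * 1000) 1000 := by decide +kernel
theorem cPCa45 : PCa (45 * 1000) 1000 := by decide +kernel
theorem cPCp45 : PCp (45 * 1000) 1000 := by decide +kernel
theorem cPInv46 : PInv (46 * 1000) 1000 := by decide +kernel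
theorem cPPar46 : PPar (46 * 1000) 1000 := by decide +kernel
theorem cPCox46 : PCox (46 * 1000) 1000 := by decide +kernel
theorem cPZa46 : PZa (46 * 1000) 1000 := by decide +kernel
theorem cPZp46 : PZp (46 * 1000) 1000 := by decide +kernel
theorem cPCa46 : PCa (46 * 1000) 1000 := by decide +kernel
theorem cPCp46 : PCp (46 * 1000) 1000 := by decide +kernel
theorem cPInv47 : PInv (47 * 1000) 1000 := by decide +kernel
theorem cPPar47 : PPar (47 * 1000) 1000 := by decide +kernel
theorem cPCox47 : PCox (47 * 1000) 1000 := by decide +kernel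
theorem cPZa47 : PZa (47 * 1000) 1000 := by decide +kernel
theorem cPZp47 : PZp (47 * 1000) 1000 := by decide +kernel
theorem cPCa47 : PCa (47 * 1000) 1000 := by decide +kernel
theorem cPCp47 : PCp (47 * 1000) 1000 := by decide +kernel

end Cfsg.Agent.Helper19.Fi24Q
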