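import Cfsg.Agent.Helper19.Fi24Q.AuxT

set_option autoImplicit false
set_option linter.all false
set_option maxRecDepth 1000000
set_option maxHeartbeats 0

namespace Cfsg.Agent.Helper19.Fi24Q

theorem cPInv52 : PInv (52 * 1000) 1000 := by decide +kernel
theorem cPPar52 : PPar (52 * 1000) 1000 := by decide +kernel
theorem cPCox52 : PCox (52 * 1000) 1000 := by decide +kernel
theorem cPZa52 : PZa (52 * 1000) 1000 := by decide +kernel
theorem cPZp52 : PZp (52 * 1000) 1000 := by decide +kernel
theorem cPCa52 : PCa (52 * 1000) 1000 := by decide +kernel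
theorem cPCp52 : PCp (52 * 1000) 1000 := by decide +kernel
theorem cPInv53 : PInv (53 * 1000) 1000 := by decide +kernel
theorem cPPar53 : PPar (53 * 1000) 1000 := by decide +kernel
theorem cPCox53 : PCox (53 * 1000) 1000 := by decide +kernel
theorem cPZa53 : PZa (53 * 1000) 1000 := by decide +kernel
theorem cPZp53 : PZp (53 * 1000) 1000 := by decide +kernel
theorem cPCa53 : PCa (53 * 1000) 1000 := by decide +kernel
theorem cPCp53 : PCp (53 * 1000) 1000 := by decide +kernel
theorem cPInv54 : PInv (54 * 1000) 1000 := by decide +kernel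
theorem cPPar54 : PPar (54 * 1000) 1000 := by decide +kernel
theorem cPCox54 : PCox (54 * 1000) 1000 := by decide +kernel
theorem cPZa54 : PZa (54 * 1000) 1000 := by decide +kernel
theorem cPZp54 : PZp (54 * 1000) 1000 := by decide +kernel
theorem cPCa54 : PCa (54 * 1000) 1000 := by decide +kernel
theorem cPCp54 : PCp (54 * 1000) 1000 := by decide +kernel
theorem cPInv55 : PInv (55 * 1000) 1000 := by decide +kernel
theorem cPPar55 : PPar (55 * 1000) 1000 := by decide +kernel
theorem cPCox55 : PCox (55 * 1000) 1000 := by decide +kernel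
theorem cPZa55 : PZa (55 * 1000) 1000 := by decide +kernel
theorem cPZp55 : PZp (55 * 1000) 1000 := by decide +kernel
theorem cPCa55 : PCa (55 * 1000) 1000 := by decide +kernel
theorem cPCp55 : PCp (55 * 1000) 1000 := by decide +kernel

end Cfsg.Agent.Helper19.Fi24Q
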