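import Cfsg.Agent.Helper19.Fi24Q.AuxT

set_option autoImplicit false
set_option linter.all false
set_option maxRecDepth 1000000
set_option maxHeartbeats 0

namespace Cfsg.Agent.Helper19.Fi24Q

theorem cPInv56 : PInv (56 * 1000) 1000 := by decide +kernel
theorem cPPar56 : PPar (56 * 1000) 1000 := by decide +kernel
theorem cPCox56 : PCox (56 * 1000) 1000 := by decide +kernel
theorem cPZa56 : PZa (56 * 1000) 1000 := by decide +kernel
theorem cPZp56 : PZp (56 * 1000) 1000 := by decide +kernel
theorem cPCa56 : PCa (56 * 1000) 1000 := by decide +kernel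
theorem cPCp56 : PCp (56 * 1000) 1000 := by decide +kernel
theorem cPInv57 : PInv (57 * 1000) 1000 := by decide +kernel
theorem cPPar57 : PPar (57 * 1000) 1000 := by decide +kernel
theorem cPCox57 : PCox (57 * 1000) 1000 := by decide +kernel
theorem cPZa57 : PZa (57 * 1000) 1000 := by decide +kernel
theorem cPZp57 : PZp (57 * 1000) 1000 := by decide +kernel
theorem cPCa57 : PCa (57 * 1000) 1000 := by decide +kernel
theorem cPCp57 : PCp (57 * 1000) 1000 := by decide +kernel
theorem cPInv58 : PInv (58 * 1000) 1000 := by decide +kernel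
theorem cPPar58 : PPar (58 * 1000) 1000 := by decide +kernel
theorem cPCox58 : PCox (58 * 1000) 1000 := by decide +kernel
theorem cPZa58 : PZa (58 * 1000) 1000 := by decide +kernel
theorem cPZp58 : PZp (58 * 1000) 1000 := by decide +kernel
theorem cPCa58 : PCa (58 * 1000) 1000 := by decide +kernel
theorem cPCp58 : PCp (58 * 1000) 1000 := by decide +kernel
theorem cPInv59 : PInv (59 * 1000) 1000 := by decide +kernel
theorem cPPar59 : PPar (59 * 1000) 1000 := by decide +kernel
theorem cPCox59 : PCox (59 * 1000) 1000 := by decide +kernel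
theorem cPZa59 : PZa (59 * 1000) 1000 := by decide +kernel
theorem cPZp59 : PZp (59 * 1000) 1000 := by decide +kernel
theorem cPCa59 : PCa (59 * 1000) 1000 := by decide +kernel
theorem cPCp59 : PCp (59 * 1000) 1000 := by decide +kernel

end Cfsg.Agent.Helper19.Fi24Q
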