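import Cfsg.Agent.Helper19.Fi24Q.AuxT

set_option autoImplicit false
set_option linter.all false
set_option maxRecDepth 1000000
set_option maxHeartbeats 0

namespace Cfsg.Agent.Helper19.Fi24Q

theorem cPInv60 : PInv (60 * 1000) 1000 := by decide +kernel
theorem cPPar60 : PPar (60 * 1000) 1000 := by decide +kernel
theorem cPCox60 : PCox (60 * 1000) 1000 := by decide +kernel
theorem cPZa60 : PZa (60 * 1000) 1000 := by decide +kernel
theorem cPZp60 : PZp (60 * 1000) 1000 := by decide +kernel
theorem cPCa60 : PCa (60 * 1000) 1000 := by decide +kernel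
theorem cPCp60 : PCp (60 * 1000) 1000 := by decide +kernel
theorem cPInv61 : PInv (61 * 1000) 1000 := by decide +kernel
theorem cPPar61 : PPar (61 * 1000) 1000 := by decide +kernel
theorem cPCox61 : PCox (61 * 1000) 1000 := by decide +kernel
theorem cPZa61 : PZa (61 * 1000) 1000 := by decide +kernel
theorem cPZp61 : PZp (61 * 1000) 1000 := by decide +kernel
theorem cPCa61 : PCa (61 * 1000) 1000 := by decide +kernel
theorem cPCp61 : PCp (61 * 1000) 1000 := by decide +kernel
theorem cPInv62 : PInv (62 * 1000) 1000 := by decide +kernel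
theorem cPPar62 : PPar (62 * 1000) 1000 := by decide +kernel
theorem cPCox62 : PCox (62 * 1000) 1000 := by decide +kernel
theorem cPZa62 : PZa (62 * 1000) 1000 := by decide +kernel
theorem cPZp62 : PZp (62 * 1000) 1000 := by decide +kernel
theorem cPCa62 : PCa (62 * 1000) 1000 := by decide +kernel
theorem cPCp62 : PCp (62 * 1000) 1000 := by decide +kernel
theorem cPInv63 : PInv (63 * 1000) 1000 := by decide +kernel
theorem cPPar63 : PPar (63 * 1000) 1000 := by decide +kernel
theorem cPCox63 : PCox (63 * 1000) 1000 := by decide +kernel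
theorem cPZa63 : PZa (63 * 1000) 1000 := by decide +kernel
theorem cPZp63 : PZp (63 * 1000) 1000 := by decide +kernel
theorem cPCa63 : PCa (63 * 1000) 1000 := by decide +kernel
theorem cPCp63 : PCp (63 * 1000) 1000 := by decide +kernel

end Cfsg.Agent.Helper19.Fi24Q
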