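import Cfsg.Agent.Helper19.Fi24Q.AuxT

set_option autoImplicit false
set_option linter.all false
set_option maxRecDepth 1000000
set_option maxHeartbeats 0

namespace Cfsg.Agent.Helper19.Fi24Q

theorem cPInv64 : PInv (64 * 1000) 1000 := by decide +kernel
theorem cPPar64 : PPar (64 * 1000) 1000 := by decide +kernel
theorem cPCox64 : PCox (64 * 1000) 1000 := by decide +kernel
theorem cPZa64 : PZa (64 * 1000) 1000 := by decide +kernel
theorem cPZp64 : PZp (64 * 1000) 1000 := by decide +kernel
theorem cPCa64 : PCa (64 * 1000) 1000 := by decide +kernel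
theorem cPCp64 : PCp (64 * 1000) 1000 := by decide +kernel
theorem cPInv65 : PInv (65 * 1000) 1000 := by decide +kernel
theorem cPPar65 : PPar (65 * 1000) 1000 := by decide +kernel
theorem cPCox65 : PCox (65 * 1000) 1000 := by decide +kernel
theorem cPZa65 : PZa (65 * 1000) 1000 := by decide +kernel
theorem cPZp65 : PZp (65 * 1000) 1000 := by decide +kernel
theorem cPCa65 : PCa (65 * 1000) 1000 := by decide +kernel
theorem cPCp65 : PCp (65 * 1000) 1000 := by decide +kernel
theorem cPInv66 : PInv (66 * 1000) 1000 := by decide +kernel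
theorem cPPar66 : PPar (66 * 1000) 1000 := by decide +kernel
theorem cPCox66 : PCox (66 * 1000) 1000 := by decide +kernel
theorem cPZa66 : PZa (66 * 1000) 1000 := by decide +kernel
theorem cPZp66 : PZp (66 * 1000) 1000 := by decide +kernel
theorem cPCa66 : PCa (66 * 1000) 1000 := by decide +kernel
theorem cPCp66 : PCp (66 * 1000) 1000 := by decide +kernel
theorem cPInv67 : PInv (67 * 1000) 1000 := by decide +kernel
theorem cPPar67 : PPar (67 * 1000) 1000 := by decide +kernel
theorem cPCox67 : PCox (67 * 1000) 1000 := by decide +kernel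
theorem cPZa67 : PZa (67 * 1000) 1000 := by decide +kernel
theorem cPZp67 : PZp (67 * 1000) 1000 := by decide +kernel
theorem cPCa67 : PCa (67 * 1000) 1000 := by decide +kernel
theorem cPCp67 : PCp (67 * 1000) 1000 := by decide +kernel

end Cfsg.Agent.Helper19.Fi24Q
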