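import Cfsg.Agent.Helper19.Fi24Q.AuxT

set_option autoImplicit false
set_option linter.all false
set_option maxRecDepth 1000000
set_option maxHeartbeats 0

namespace Cfsg.Agent.Helper19.Fi24Q

theorem cPInv68 : PInv (68 * 1000) 1000 := by decide +kernel
theorem cPPar68 : PPar (68 * 1000) 1000 := by decide +kernel
theorem cPCox68 : PCox (68 * 1000) 1000 := by decide +kernel
theorem cPZa68 : PZa (68 * 1000) 1000 := by decide +kernel
theorem cPZp68 : PZp (68 * 1000) 1000 := by decide +kernel
theorem cPCa68 : PCa (68 * 1000) 1000 := by decide +kernel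
theorem cPCp68 : PCp (68 * 1000) 1000 := by decide +kernel
theorem cPInv69 : PInv (69 * 1000) 1000 := by decide +kernel
theorem cPPar69 : PPar (69 * 1000) 1000 := by decide +kernel
theorem cPCox69 : PCox (69 * 1000) 1000 := by decide +kernel
theorem cPZa69 : PZa (69 * 1000) 1000 := by decide +kernel
theorem cPZp69 : PZp (69 * 1000) 1000 := by decide +kernel
theorem cPCa69 : PCa (69 * 1000) 1000 := by decide +kernel
theorem cPCp69 : PCp (69 * 1000) 1000 := by decide +kernel
theorem cPInv70 : PInv (70 * 1000) 1000 := by decide +kernel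
theorem cPPar70 : PPar (70 * 1000) 1000 := by decide +kernel
theorem cPCox70 : PCox (70 * 1000) 1000 := by decide +kernel
theorem cPZa70 : PZa (70 * 1000) 1000 := by decide +kernel
theorem cPZp70 : PZp (70 * 1000) 1000 := by decide +kernel
theorem cPCa70 : PCa (70 * 1000) 1000 := by decide +kernel
theorem cPCp70 : PCp (70 * 1000) 1000 := by decide +kernel
theorem cPInv71 : PInv (71 * 1000) 1000 := by decide +kernel
theorem cPPar71 : PPar (71 * 1000) 1000 := by decide +kernel
theorem cPCox71 : PCox (71 * 1000) 1000 := by decide +kernel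
theorem cPZa71 : PZa (71 * 1000) 1000 := by decide +kernel
theorem cPZp71 : PZp (71 * 1000) 1000 := by decide +kernel
theorem cPCa71 : PCa (71 * 1000) 1000 := by decide +kernel
theorem cPCp71 : PCp (71 * 1000) 1000 := by decide +kernel

end Cfsg.Agent.Helper19.Fi24Q
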