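import Cfsg.Agent.Helper19.Fi24Q.AuxT

set_option autoImplicit false
set_option linter.all false
set_option maxRecDepth 1000000
set_option maxHeartbeats 0

namespace Cfsg.Agent.Helper19.Fi24Q

theorem cPInv72 : PInv (72 * 1000) 1000 := by decide +kernel
theorem cPPar72 : PPar (72 * 1000) 1000 := by decide +kernel
theorem cPCox72 : PCox (72 * 1000) 1000 := by decide +kernel
theorem cPZa72 : PZa (72 * 1000) 1000 := by decide +kernel
theorem cPZp72 : PZp (72 * 1000) 1000 := by decide +kernel
theorem cPCa72 : PCa (72 * 1000) 1000 := by decide +kernel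
theorem cPCp72 : PCp (72 * 1000) 1000 := by decide +kernel
theorem cPInv73 : PInv (73 * 1000) 1000 := by decide +kernel
theorem cPPar73 : PPar (73 * 1000) 1000 := by decide +kernel
theorem cPCox73 : PCox (73 * 1000) 1000 := by decide +kernel
theorem cPZa73 : PZa (73 * 1000) 1000 := by decide +kernel
theorem cPZp73 : PZp (73 * 1000) 1000 := by decide +kernel
theorem cPCa73 : PCa (73 * 1000) 1000 := by decide +kernel
theorem cPCp73 : PCp (73 * 1000) 1000 := by decide +kernel
theorem cPInv74 : PInv (74 * 1000) 1000 := by decide +kernel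
theorem cPPar74 : PPar (74 * 1000) 1000 := by decide +kernel
theorem cPCox74 : PCox (74 * 1000) 1000 := by decide +kernel
theorem cPZa74 : PZa (74 * 1000) 1000 := by decide +kernel
theorem cPZp74 : PZp (74 * 1000) 1000 := by decide +kernel
theorem cPCa74 : PCa (74 * 1000) 1000 := by decide +kernel
theorem cPCp74 : PCp (74 * 1000) 1000 := by decide +kernel
theorem cPInv75 : PInv (75 * 1000) 1000 := by decide +kernel
theorem cPPar75 : PPar (75 * 1000) 1000 := by decide +kernel
theorem cPCox75 : PCox (75 * 1000) 1000 := by decide +kernel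
theorem cPZa75 : PZa (75 * 1000) 1000 := by decide +kernel
theorem cPZp75 : PZp (75 * 1000) 1000 := by decide +kernel
theorem cPCa75 : PCa (75 * 1000) 1000 := by decide +kernel
theorem cPCp75 : PCp (75 * 1000) 1000 := by decide +kernel

end Cfsg.Agent.Helper19.Fi24Q
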