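import Cfsg.Agent.Helper19.Fi24Q.AuxT

set_option autoImplicit false
set_option linter.all false
set_option maxRecDepth 1000000
set_option maxHeartbeats 0

namespace Cfsg.Agent.Helper19.Fi24Q

theorem cPInv76 : PInv (76 * 1000) 1000 := by decide +kernel
theorem cPPar76 : PPar (76 * 1000) 1000 := by decide +kernel
theorem cPCox76 : PCox (76 * 1000) 1000 := by decide +kernel
theorem cPZa76 : PZa (76 * 1000) 1000 := by decide +kernel
theorem cPZp76 : PZp (76 * 1000) 1000 := by decide +kernel
theorem cPCa76 : PCa (76 * 1000) 1000 := by decide +kernel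
theorem cPCp76 : PCp (76 * 1000) 1000 := by decide +kernel
theorem cPInv77 : PInv (77 * 1000) 1000 := by decide +kernel
theorem cPPar77 : PPar (77 * 1000) 1000 := by decide +kernel
theorem cPCox77 : PCox (77 * 1000) 1000 := by decide +kernel
theorem cPZa77 : PZa (77 * 1000) 1000 := by decide +kernel
theorem cPZp77 : PZp (77 * 1000) 1000 := by decide +kernel
theorem cPCa77 : PCa (77 * 1000) 1000 := by decide +kernel
theorem cPCp77 : PCp (77 * 1000) 1000 := by decide +kernel
theorem cPInv78 : PInv (78 * 1000) 1000 := by decide +kernel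
theorem cPPar78 : PPar (78 * 1000) 1000 := by decide +kernel
theorem cPCox78 : PCox (78 * 1000) 1000 := by decide +kernel
theorem cPZa78 : PZa (78 * 1000) 1000 := by decide +kernel
theorem cPZp78 : PZp (78 * 1000) 1000 := by decide +kernel
theorem cPCa78 : PCa (78 * 1000) 1000 := by decide +kernel
theorem cPCp78 : PCp (78 * 1000) 1000 := by decide +kernel
theorem cPInv79 : PInv (79 * 1000) 1000 := by decide +kernel
theorem cPPar79 : PPar (79 * 1000) 1000 := by decide +kernel
theorem cPCox79 : PCox (79 * 1000) 1000 := by decide +kernel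
theorem cPZa79 : PZa (79 * 1000) 1000 := by decide +kernel
theorem cPZp79 : PZp (79 * 1000) 1000 := by decide +kernel
theorem cPCa79 : PCa (79 * 1000) 1000 := by decide +kernel
theorem cPCp79 : PCp (79 * 1000) 1000 := by decide +kernel

end Cfsg.Agent.Helper19.Fi24Q
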