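import Cfsg.Agent.Helper19.Fi24Q.AuxT

set_option autoImplicit false
set_option linter.all false
set_option maxRecDepth 1000000
set_option maxHeartbeats 0

namespace Cfsg.Agent.Helper19.Fi24Q

theorem cPInv8 : PInv (8 * 1000) 1000 := by decide +kernel
theorem cPPar8 : PPar (8 * 1000) 1000 := by decide +kernel
theorem cPCox8 : PCox (8 * 1000) 1000 := by decide +kernel
theorem cPZa8 : PZa (8 * 1000) 1000 := by decide +kernel
theorem cPZp8 : PZp (8 * 1000) 1000 := by decide +kernel
theorem cPCa8 : PCa (8 * 1000) 1000 := by decide +kernel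
theorem cPCp8 : PCp (8 * 1000) 1000 := by decide +kernel
theorem cPInv9 : PInv (9 * 1000) 1000 := by decide +kernel
theorem cPPar9 : PPar (9 * 1000) 1000 := by decide +kernel
theorem cPCox9 : PCox (9 * 1000) 1000 := by decide +kernel
theorem cPZa9 : PZa (9 * 1000) 1000 := by decide +kernel
theorem cPZp9 : PZp (9 * 1000) 1000 := by decide +kernel
theorem cPCa9 : PCa (9 * 1000) 1000 := by decide +kernel
theorem cPCp9 : PCp (9 * 1000) 1000 := by decide +kernel
theorem cPInv10 : PInv (10 * 1000) 1000 := by decide +kernel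
theorem cPPar10 : PPar (10 * 1000) 1000 := by decide +kernel
theorem cPCox10 : PCox (10 * 1000) 1000 := by decide +kernel
theorem cPZa10 : PZa (10 * 1000) 1000 := by decide +kernel
theorem cPZp10 : PZp (10 * 1000) 1000 := by decide +kernel
theorem cPCa10 : PCa (10 * 1000) 1000 := by decide +kernel
theorem cPCp10 : PCp (10 * 1000) 1000 := by decide +kernel
theorem cPInv11 : PInv (11 * 1000) 1000 := by decide +kernel
theorem cPPar11 : PPar (11 * 1000) 1000 := by decide +kernel
theorem cPCox11 : PCox (11 * 1000) 1000 := by decide +kernel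
theorem cPZa11 : PZa (11 * 1000) 1000 := by decide +kernel
theorem cPZp11 : PZp (11 * 1000) 1000 := by decide +kernel
theorem cPCa11 : PCa (11 * 1000) 1000 := by decide +kernel
theorem cPCp11 : PCp (11 * 1000) 1000 := by decide +kernel

end Cfsg.Agent.Helper19.Fi24Q
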