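import Cfsg.Agent.Helper19.Fi24Q.AuxT

set_option autoImplicit false
set_option linter.all false
set_option maxRecDepth 1000000
set_option maxHeartbeats 0

namespace Cfsg.Agent.Helper19.Fi24Q

theorem cPInv80 : PInv (80 * 1000) 1000 := by decide +kernel
theorem cPPar80 : PPar (80 * 1000) 1000 := by decide +kernel
theorem cPCox80 : PCox (80 * 1000) 1000 := by decide +kernel
theorem cPZa80 : PZa (80 * 1000) 1000 := by decide +kernel
theorem cPZp80 : PZp (80 * 1000) 1000 := by decide +kernel
theorem cPCa80 : PCa (80 * 1000) 1000 := by decide +kernel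
theorem cPCp80 : PCp (80 * 1000) 1000 := by decide +kernel
theorem cPInv81 : PInv (81 * 1000) 1000 := by decide +kernel
theorem cPPar81 : PPar (81 * 1000) 1000 := by decide +kernel
theorem cPCox81 : PCox (81 * 1000) 1000 := by decide +kernel
theorem cPZa81 : PZa (81 * 1000) 1000 := by decide +kernel
theorem cPZp81 : PZp (81 * 1000) 1000 := by decide +kernel
theorem cPCa81 : PCa (81 * 1000) 1000 := by decide +kernel
theorem cPCp81 : PCp (81 * 1000) 1000 := by decide +kernel
theorem cPInv82 : PInv (82 * 1000) 1000 := by decide +kernel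
theorem cPPar82 : PPar (82 * 1000) 1000 := by decide +kernel
theorem cPCox82 : PCox (82 * 1000) 1000 := by decide +kernel
theorem cPZa82 : PZa (82 * 1000) 1000 := by decide +kernel
theorem cPZp82 : PZp (82 * 1000) 1000 := by decide +kernel
theorem cPCa82 : PCa (82 * 1000) 1000 := by decide +kernel
theorem cPCp82 : PCp (82 * 1000) 1000 := by decide +kernel
theorem cPInv83 : PInv (83 * 1000) 1000 := by decide +kernel
theorem cPPar83 : PPar (83 * 1000) 1000 := by decide +kernel
theorem cPCox83 : PCox (83 * 1000) 1000 := by decide +kernel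
theorem cPZa83 : PZa (83 * 1000) 1000 := by decide +kernel
theorem cPZp83 : PZp (83 * 1000) 1000 := by decide +kernel
theorem cPCa83 : PCa (83 * 1000) 1000 := by decide +kernel
theorem cPCp83 : PCp (83 * 1000) 1000 := by decide +kernel

end Cfsg.Agent.Helper19.Fi24Q
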