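import Cfsg.Agent.Helper19.Fi24Q.AuxT

set_option autoImplicit false
set_option linter.all false
set_option maxRecDepth 1000000
set_option maxHeartbeats 0

namespace Cfsg.Agent.Helper19.Fi24Q

theorem cPInv84 : PInv (84 * 1000) 1000 := by decide +kernel
theorem cPPar84 : PPar (84 * 1000) 1000 := by decide +kernel
theorem cPCox84 : PCox (84 * 1000) 1000 := by decide +kernel
theorem cPZa84 : PZa (84 * 1000) 1000 := by decide +kernel
theorem cPZp84 : PZp (84 * 1000) 1000 := by decide +kernel
theorem cPCa84 : PCa (84 * 1000) 1000 := by decide +kernel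
theorem cPCp84 : PCp (84 * 1000) 1000 := by decide +kernel
theorem cPInv85 : PInv (85 * 1000) 1000 := by decide +kernel
theorem cPPar85 : PPar (85 * 1000) 1000 := by decide +kernel
theorem cPCox85 : PCox (85 * 1000) 1000 := by decide +kernel
theorem cPZa85 : PZa (85 * 1000) 1000 := by decide +kernel
theorem cPZp85 : PZp (85 * 1000) 1000 := by decide +kernel
theorem cPCa85 : PCa (85 * 1000) 1000 := by decide +kernel
theorem cPCp85 : PCp (85 * 1000) 1000 := by decide +kernel
theorem cPInv86 : PInv (86 * 1000) 1000 := by decide +kernel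
theorem cPPar86 : PPar (86 * 1000) 1000 := by decide +kernel
theorem cPCox86 : PCox (86 * 1000) 1000 := by decide +kernel
theorem cPZa86 : PZa (86 * 1000) 1000 := by decide +kernel
theorem cPZp86 : PZp (86 * 1000) 1000 := by decide +kernel
theorem cPCa86 : PCa (86 * 1000) 1000 := by decide +kernel
theorem cPCp86 : PCp (86 * 1000) 1000 := by decide +kernel
theorem cPInv87 : PInv (87 * 1000) 1000 := by decide +kernel
theorem cPPar87 : PPar (87 * 1000) 1000 := by decide +kernel
theorem cPCox87 : PCox (87 * 1000) 1000 := by decide +kernel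
theorem cPZa87 : PZa (87 * 1000) 1000 := by decide +kernel
theorem cPZp87 : PZp (87 * 1000) 1000 := by decide +kernel
theorem cPCa87 : PCa (87 * 1000) 1000 := by decide +kernel
theorem cPCp87 : PCp (87 * 1000) 1000 := by decide +kernel

end Cfsg.Agent.Helper19.Fi24Q
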