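import Cfsg.Agent.Helper19.Fi24Q.AuxT

set_option autoImplicit false
set_option linter.all false
set_option maxRecDepth 1000000
set_option maxHeartbeats 0

namespace Cfsg.Agent.Helper19.Fi24Q

theorem cPInv88 : PInv (88 * 1000) 1000 := by decide +kernel
theorem cPPar88 : PPar (88 * 1000) 1000 := by decide +kernel
theorem cPCox88 : PCox (88 * 1000) 1000 := by decide +kernel
theorem cPZa88 : PZa (88 * 1000) 1000 := by decide +kernel
theorem cPZp88 : PZp (88 * 1000) 1000 := by decide +kernel
theorem cPCa88 : PCa (88 * 1000) 1000 := by decide +kernel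
theorem cPCp88 : PCp (88 * 1000) 1000 := by decide +kernel
theorem cPInv89 : PInv (89 * 1000) 1000 := by decide +kernel
theorem cPPar89 : PPar (89 * 1000) 1000 := by decide +kernel
theorem cPCox89 : PCox (89 * 1000) 1000 := by decide +kernel
theorem cPZa89 : PZa (89 * 1000) 1000 := by decide +kernel
theorem cPZp89 : PZp (89 * 1000) 1000 := by decide +kernel
theorem cPCa89 : PCa (89 * 1000) 1000 := by decide +kernel
theorem cPCp89 : PCp (89 * 1000) 1000 := by decide +kernel
theorem cPInv90 : PInv (90 * 1000) 1000 := by decide +kernel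
theorem cPPar90 : PPar (90 * 1000) 1000 := by decide +kernel
theorem cPCox90 : PCox (90 * 1000) 1000 := by decide +kernel
theorem cPZa90 : PZa (90 * 1000) 1000 := by decide +kernel
theorem cPZp90 : PZp (90 * 1000) 1000 := by decide +kernel
theorem cPCa90 : PCa (90 * 1000) 1000 := by decide +kernel
theorem cPCp90 : PCp (90 * 1000) 1000 := by decide +kernel
theorem cPInv91 : PInv (91 * 1000) 1000 := by decide +kernel
theorem cPPar91 : PPar (91 * 1000) 1000 := by decide +kernel
theorem cPCox91 : PCox (91 * 1000) 1000 := by decide +kernel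
theorem cPZa91 : PZa (91 * 1000) 1000 := by decide +kernel
theorem cPZp91 : PZp (91 * 1000) 1000 := by decide +kernel
theorem cPCa91 : PCa (91 * 1000) 1000 := by decide +kernel
theorem cPCp91 : PCp (91 * 1000) 1000 := by decide +kernel

end Cfsg.Agent.Helper19.Fi24Q
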