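import Cfsg.Agent.Helper19.Fi24Q.AuxT

set_option autoImplicit false
set_option linter.all false
set_option maxRecDepth 1000000
set_option maxHeartbeats 0

namespace Cfsg.Agent.Helper19.Fi24Q

theorem cPInv92 : PInv (92 * 1000) 1000 := by decide +kernel
theorem cPPar92 : PPar (92 * 1000) 1000 := by decide +kernel
theorem cPCox92 : PCox (92 * 1000) 1000 := by decide +kernel
theorem cPZa92 : PZa (92 * 1000) 1000 := by decide +kernel
theorem cPZp92 : PZp (92 * 1000) 1000 := by decide +kernel
theorem cPCa92 : PCa (92 * 1000) 1000 := by decide +kernel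
theorem cPCp92 : PCp (92 * 1000) 1000 := by decide +kernel
theorem cPInv93 : PInv (93 * 1000) 1000 := by decide +kernel
theorem cPPar93 : PPar (93 * 1000) 1000 := by decide +kernel
theorem cPCox93 : PCox (93 * 1000) 1000 := by decide +kernel
theorem cPZa93 : PZa (93 * 1000) 1000 := by decide +kernel
theorem cPZp93 : PZp (93 * 1000) 1000 := by decide +kernel
theorem cPCa93 : PCa (93 * 1000) 1000 := by decide +kernel
theorem cPCp93 : PCp (93 * 1000) 1000 := by decide +kernel
theorem cPInv94 : PInv (94 * 1000) 1000 := by decide +kernel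
theorem cPPar94 : PPar (94 * 1000) 1000 := by decide +kernel
theorem cPCox94 : PCox (94 * 1000) 1000 := by decide +kernel
theorem cPZa94 : PZa (94 * 1000) 1000 := by decide +kernel
theorem cPZp94 : PZp (94 * 1000) 1000 := by decide +kernel
theorem cPCa94 : PCa (94 * 1000) 1000 := by decide +kernel
theorem cPCp94 : PCp (94 * 1000) 1000 := by decide +kernel
theorem cPInv95 : PInv (95 * 1000) 1000 := by decide +kernel
theorem cPPar95 : PPar (95 * 1000) 1000 := by decide +kernel
theorem cPCox95 : PCox (95 * 1000) 1000 := by decide +kernel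
theorem cPZa95 : PZa (95 * 1000) 1000 := by decide +kernel
theorem cPZp95 : PZp (95 * 1000) 1000 := by decide +kernel
theorem cPCa95 : PCa (95 * 1000) 1000 := by decide +kernel
theorem cPCp95 : PCp (95 * 1000) 1000 := by decide +kernel

end Cfsg.Agent.Helper19.Fi24Q
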