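import Cfsg.Agent.Helper19.Fi24Q.AuxT

set_option autoImplicit false
set_option linter.all false
set_option maxRecDepth 1000000
set_option maxHeartbeats 0

namespace Cfsg.Agent.Helper19.Fi24Q

theorem cPInv96 : PInv (96 * 1000) 1000 := by decide +kernel
theorem cPPar96 : PPar (96 * 1000) 1000 := by decide +kernel
theorem cPCox96 : PCox (96 * 1000) 1000 := by decide +kernel
theorem cPZa96 : PZa (96 * 1000) 1000 := by decide +kernel
theorem cPZp96 : PZp (96 * 1000) 1000 := by decide +kernel
theorem cPCa96 : PCa (96 * 1000) 1000 := by decide +kernel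
theorem cPCp96 : PCp (96 * 1000) 1000 := by decide +kernel
theorem cPInv97 : PInv (97 * 1000) 1000 := by decide +kernel
theorem cPPar97 : PPar (97 * 1000) 1000 := by decide +kernel
theorem cPCox97 : PCox (97 * 1000) 1000 := by decide +kernel
theorem cPZa97 : PZa (97 * 1000) 1000 := by decide +kernel
theorem cPZp97 : PZp (97 * 1000) 1000 := by decide +kernel
theorem cPCa97 : PCa (97 * 1000) 1000 := by decide +kernel
theorem cPCp97 : PCp (97 * 1000) 1000 := by decide +kernel
theorem cPInv98 : PInv (98 * 1000) 1000 := by decide +kernel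
theorem cPPar98 : PPar (98 * 1000) 1000 := by decide +kernel
theorem cPCox98 : PCox (98 * 1000) 1000 := by decide +kernel
theorem cPZa98 : PZa (98 * 1000) 1000 := by decide +kernel
theorem cPZp98 : PZp (98 * 1000) 1000 := by decide +kernel
theorem cPCa98 : PCa (98 * 1000) 1000 := by decide +kernel
theorem cPCp98 : PCp (98 * 1000) 1000 := by decide +kernel
theorem cPInv99 : PInv (99 * 1000) 1000 := by decide +kernel
theorem cPPar99 : PPar (99 * 1000) 1000 := by decide +kernel
theorem cPCox99 : PCox (99 * 1000) 1000 := by decide +kernel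
theorem cPZa99 : PZa (99 * 1000) 1000 := by decide +kernel
theorem cPZp99 : PZp (99 * 1000) 1000 := by decide +kernel
theorem cPCa99 : PCa (99 * 1000) 1000 := by decide +kernel
theorem cPCp99 : PCp (99 * 1000) 1000 := by decide +kernel

end Cfsg.Agent.Helper19.Fi24Q
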