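import Cfsg.Agent.Helper19.Fi24Q.AuxT

set_option autoImplicit false
set_option linter.all false
set_option maxRecDepth 1000000
set_option maxHeartbeats 0

namespace Cfsg.Agent.Helper19.Fi24Q

theorem cPInv100 : PInv (100 * 1000) 1000 := by decide +kernel
theorem cPPar100 : PPar (100 * 1000) 1000 := by decide +kernel
theorem cPCox100 : PCox (100 * 1000) 1000 := by decide +kernel
theorem cPZa100 : PZa (100 * 1000) 1000 := by decide +kernel
theorem cPZp100 : PZp (100 * 1000) 1000 := by decide +kernel
theorem cPCa100 : PCa (100 * 1000) 1000 := by decide +kernel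
theorem cPCp100 : PCp (100 * 1000) 1000 := by decide +kernel
theorem cPInv101 : PInv (101 * 1000) 1000 := by decide +kernel
theorem cPPar101 : PPar (101 * 1000) 1000 := by decide +kernel
theorem cPCox101 : PCox (101 * 1000) 1000 := by decide +kernel
theorem cPZa101 : PZa (101 * 1000) 1000 := by decide +kernel
theorem cPZp101 : PZp (101 * 1000) 1000 := by decide +kernel
theorem cPCa101 : PCa (101 * 1000) 1000 := by decide +kernel
theorem cPCp101 : PCp (101 * 1000) 1000 := by decide +kernel
theorem cPInv102 : PInv (102 * 1000) 1000 := by decide +kernel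
theorem cPPar102 : PPar (102 * 1000) 1000 := by decide +kernel
theorem cPCox102 : PCox (102 * 1000) 1000 := by decide +kernel
theorem cPZa102 : PZa (102 * 1000) 1000 := by decide +kernel
theorem cPZp102 : PZp (102 * 1000) 1000 := by decide +kernel
theorem cPCa102 : PCa (102 * 1000) 1000 := by decide +kernel
theorem cPCp102 : PCp (102 * 1000) 1000 := by decide +kernel
theorem cPInv103 : PInv (103 * 1000) 1000 := by decide +kernel
theorem cPPar103 : PPar (103 * 1000) 1000 := by decide +kernel
theorem cPCox103 : PCox (103 * 1000) 1000 := by decide +kernel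
theorem cPZa103 : PZa (103 * 1000) 1000 := by decide +kernel
theorem cPZp103 : PZp (103 * 1000) 1000 := by decide +kernel
theorem cPCa103 : PCa (103 * 1000) 1000 := by decide +kernel
theorem cPCp103 : PCp (103 * 1000) 1000 := by decide +kernel

end Cfsg.Agent.Helper19.Fi24Q
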