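import Cfsg.Agent.Helper19.Fi24Q.AuxT

set_option autoImplicit false
set_option linter.all false
set_option maxRecDepth 1000000
set_option maxHeartbeats 0

namespace Cfsg.Agent.Helper19.Fi24Q

theorem cPInv108 : PInv (108 * 1000) 1000 := by decide +kernel
theorem cPPar108 : PPar (108 * 1000) 1000 := by decide +kernel
theorem cPCox108 : PCox (108 * 1000) 1000 := by decide +kernel
theorem cPZa108 : PZa (108 * 1000) 1000 := by decide +kernel
theorem cPZp108 : PZp (108 * 1000) 1000 := by decide +kernel
theorem cPCa108 : PCa (108 * 1000) 1000 := by decide +kernel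
theorem cPCp108 : PCp (108 * 1000) 1000 := by decide +kernel
theorem cPInv109 : PInv (109 * 1000) 1000 := by decide +kernel
theorem cPPar109 : PPar (109 * 1000) 1000 := by decide +kernel
theorem cPCox109 : PCox (109 * 1000) 1000 := by decide +kernel
theorem cPZa109 : PZa (109 * 1000) 1000 := by decide +kernel
theorem cPZp109 : PZp (109 * 1000) 1000 := by decide +kernel
theorem cPCa109 : PCa (109 * 1000) 1000 := by decide +kernel
theorem cPCp109 : PCp (109 * 1000) 1000 := by decide +kernel
theorem cPInv110 : PInv (110 * 1000) 1000 := by decide +kernel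
theorem cPPar110 : PPar (110 * 1000) 1000 := by decide +kernel
theorem cPCox110 : PCox (110 * 1000) 1000 := by decide +kernel
theorem cPZa110 : PZa (110 * 1000) 1000 := by decide +kernel
theorem cPZp110 : PZp (110 * 1000) 1000 := by decide +kernel
theorem cPCa110 : PCa (110 * 1000) 1000 := by decide +kernel
theorem cPCp110 : PCp (110 * 1000) 1000 := by decide +kernel
theorem cPInv111 : PInv (111 * 1000) 1000 := by decide +kernel
theorem cPPar111 : PPar (111 * 1000) 1000 := by decide +kernel
theorem cPCox111 : PCox (111 * 1000) 1000 := by decide +kernel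
theorem cPZa111 : PZa (111 * 1000) 1000 := by decide +kernel
theorem cPZp111 : PZp (111 * 1000) 1000 := by decide +kernel
theorem cPCa111 : PCa (111 * 1000) 1000 := by decide +kernel
theorem cPCp111 : PCp (111 * 1000) 1000 := by decide +kernel

end Cfsg.Agent.Helper19.Fi24Q
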