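import Cfsg.Agent.Helper19.Fi24Q.AuxT

set_option autoImplicit false
set_option linter.all false
set_option maxRecDepth 1000000
set_option maxHeartbeats 0

namespace Cfsg.Agent.Helper19.Fi24Q

theorem cPInv112 : PInv (112 * 1000) 1000 := by decide +kernel
theorem cPPar112 : PPar (112 * 1000) 1000 := by decide +kernel
theorem cPCox112 : PCox (112 * 1000) 1000 := by decide +kernel
theorem cPZa112 : PZa (112 * 1000) 1000 := by decide +kernel
theorem cPZp112 : PZp (112 * 1000) 1000 := by decide +kernel
theorem cPCa112 : PCa (112 * 1000) 1000 := by decide +kernel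
theorem cPCp112 : PCp (112 * 1000) 1000 := by decide +kernel
theorem cPInv113 : PInv (113 * 1000) 1000 := by decide +kernel
theorem cPPar113 : PPar (113 * 1000) 1000 := by decide +kernel
theorem cPCox113 : PCox (113 * 1000) 1000 := by decide +kernel
theorem cPZa113 : PZa (113 * 1000) 1000 := by decide +kernel
theorem cPZp113 : PZp (113 * 1000) 1000 := by decide +kernel
theorem cPCa113 : PCa (113 * 1000) 1000 := by decide +kernel
theorem cPCp113 : PCp (113 * 1000) 1000 := by decide +kernel
theorem cPInv114 : PInv (114 * 1000) 1000 := by decide +kernel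
theorem cPPar114 : PPar (114 * 1000) 1000 := by decide +kernel
theorem cPCox114 : PCox (114 * 1000) 1000 := by decide +kernel
theorem cPZa114 : PZa (114 * 1000) 1000 := by decide +kernel
theorem cPZp114 : PZp (114 * 1000) 1000 := by decide +kernel
theorem cPCa114 : PCa (114 * 1000) 1000 := by decide +kernel
theorem cPCp114 : PCp (114 * 1000) 1000 := by decide +kernel
theorem cPInv115 : PInv (115 * 1000) 1000 := by decide +kernel
theorem cPPar115 : PPar (115 * 1000) 1000 := by decide +kernel
theorem cPCox115 : PCox (115 * 1000) 1000 := by decide +kernel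
theorem cPZa115 : PZa (115 * 1000) 1000 := by decide +kernel
theorem cPZp115 : PZp (115 * 1000) 1000 := by decide +kernel
theorem cPCa115 : PCa (115 * 1000) 1000 := by decide +kernel
theorem cPCp115 : PCp (115 * 1000) 1000 := by decide +kernel

end Cfsg.Agent.Helper19.Fi24Q
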