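import Cfsg.Agent.Helper19.Fi24Q.AuxT

set_option autoImplicit false
set_option linter.all false
set_option maxRecDepth 1000000
set_option maxHeartbeats 0

namespace Cfsg.Agent.Helper19.Fi24Q

theorem cPInv116 : PInv (116 * 1000) 1000 := by decide +kernel
theorem cPPar116 : PPar (116 * 1000) 1000 := by decide +kernel
theorem cPCox116 : PCox (116 * 1000) 1000 := by decide +kernel
theorem cPZa116 : PZa (116 * 1000) 1000 := by decide +kernel
theorem cPZp116 : PZp (116 * 1000) 1000 := by decide +kernel
theorem cPCa116 : PCa (116 * 1000) 1000 := by decide +kernel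
theorem cPCp116 : PCp (116 * 1000) 1000 := by decide +kernel
theorem cPInv117 : PInv (117 * 1000) 1000 := by decide +kernel
theorem cPPar117 : PPar (117 * 1000) 1000 := by decide +kernel
theorem cPCox117 : PCox (117 * 1000) 1000 := by decide +kernel
theorem cPZa117 : PZa (117 * 1000) 1000 := by decide +kernel
theorem cPZp117 : PZp (117 * 1000) 1000 := by decide +kernel
theorem cPCa117 : PCa (117 * 1000) 1000 := by decide +kernel
theorem cPCp117 : PCp (117 * 1000) 1000 := by decide +kernel
theorem cPInv118 : PInv (118 * 1000) 1000 := by decide +kernel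
theorem cPPar118 : PPar (118 * 1000) 1000 := by decide +kernel
theorem cPCox118 : PCox (118 * 1000) 1000 := by decide +kernel
theorem cPZa118 : PZa (118 * 1000) 1000 := by decide +kernel
theorem cPZp118 : PZp (118 * 1000) 1000 := by decide +kernel
theorem cPCa118 : PCa (118 * 1000) 1000 := by decide +kernel
theorem cPCp118 : PCp (118 * 1000) 1000 := by decide +kernel
theorem cPInv119 : PInv (119 * 1000) 1000 := by decide +kernel
theorem cPPar119 : PPar (119 * 1000) 1000 := by decide +kernel
theorem cPCox119 : PCox (119 * 1000) 1000 := by decide +kernel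
theorem cPZa119 : PZa (119 * 1000) 1000 := by decide +kernel
theorem cPZp119 : PZp (119 * 1000) 1000 := by decide +kernel
theorem cPCa119 : PCa (119 * 1000) 1000 := by decide +kernel
theorem cPCp119 : PCp (119 * 1000) 1000 := by decide +kernel

end Cfsg.Agent.Helper19.Fi24Q
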