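import Cfsg.Agent.Helper19.Fi24Q.AuxT

set_option autoImplicit false
set_option linter.all false
set_option maxRecDepth 1000000
set_option maxHeartbeats 0

namespace Cfsg.Agent.Helper19.Fi24Q

theorem cPInv12 : PInv (12 * 1000) 1000 := by decide +kernel
theorem cPPar12 : PPar (12 * 1000) 1000 := by decide +kernel
theorem cPCox12 : PCox (12 * 1000) 1000 := by decide +kernel
theorem cPZa12 : PZa (12 * 1000) 1000 := by decide +kernel
theorem cPZp12 : PZp (12 * 1000) 1000 := by decide +kernel
theorem cPCa12 : PCa (12 * 1000) 1000 := by decide +kernel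
theorem cPCp12 : PCp (12 * 1000) 1000 := by decide +kernel
theorem cPInv13 : PInv (13 * 1000) 1000 := by decide +kernel
theorem cPPar13 : PPar (13 * 1000) 1000 := by decide +kernel
theorem cPCox13 : PCox (13 * 1000) 1000 := by decide +kernel
theorem cPZa13 : PZa (13 * 1000) 1000 := by decide +kernel
theorem cPZp13 : PZp (13 * 1000) 1000 := by decide +kernel
theorem cPCa13 : PCa (13 * 1000) 1000 := by decide +kernel
theorem cPCp13 : PCp (13 * 1000) 1000 := by decide +kernel
theorem cPInv14 : PInv (14 * 1000) 1000 := by decide +kernel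
theorem cPPar14 : PPar (14 * 1000) 1000 := by decide +kernel
theorem cPCox14 : PCox (14 * 1000) 1000 := by decide +kernel
theorem cPZa14 : PZa (14 * 1000) 1000 := by decide +kernel
theorem cPZp14 : PZp (14 * 1000) 1000 := by decide +kernel
theorem cPCa14 : PCa (14 * 1000) 1000 := by decide +kernel
theorem cPCp14 : PCp (14 * 1000) 1000 := by decide +kernel
theorem cPInv15 : PInv (15 * 1000) 1000 := by decide +kernel
theorem cPPar15 : PPar (15 * 1000) 1000 := by decide +kernel
theorem cPCox15 : PCox (15 * 1000) 1000 := by decide +kernel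
theorem cPZa15 : PZa (15 * 1000) 1000 := by decide +kernel
theorem cPZp15 : PZp (15 * 1000) 1000 := by decide +kernel
theorem cPCa15 : PCa (15 * 1000) 1000 := by decide +kernel
theorem cPCp15 : PCp (15 * 1000) 1000 := by decide +kernel

end Cfsg.Agent.Helper19.Fi24Q
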