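import Cfsg.Agent.Helper19.Fi24Q.AuxT

set_option autoImplicit false
set_option linter.all false
set_option maxRecDepth 1000000
set_option maxHeartbeats 0

namespace Cfsg.Agent.Helper19.Fi24Q

theorem cPInv120 : PInv (120 * 1000) 1000 := by decide +kernel
theorem cPPar120 : PPar (120 * 1000) 1000 := by decide +kernel
theorem cPCox120 : PCox (120 * 1000) 1000 := by decide +kernel
theorem cPZa120 : PZa (120 * 1000) 1000 := by decide +kernel
theorem cPZp120 : PZp (120 * 1000) 1000 := by decide +kernel
theorem cPCa120 : PCa (120 * 1000) 1000 := by decide +kernel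
theorem cPCp120 : PCp (120 * 1000) 1000 := by decide +kernel
theorem cPInv121 : PInv (121 * 1000) 1000 := by decide +kernel
theorem cPPar121 : PPar (121 * 1000) 1000 := by decide +kernel
theorem cPCox121 : PCox (121 * 1000) 1000 := by decide +kernel
theorem cPZa121 : PZa (121 * 1000) 1000 := by decide +kernel
theorem cPZp121 : PZp (121 * 1000) 1000 := by decide +kernel
theorem cPCa121 : PCa (121 * 1000) 1000 := by decide +kernel
theorem cPCp121 : PCp (121 * 1000) 1000 := by decide +kernel
theorem cPInv122 : PInv (122 * 1000) 1000 := by decide +kernel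
theorem cPPar122 : PPar (122 * 1000) 1000 := by decide +kernel
theorem cPCox122 : PCox (122 * 1000) 1000 := by decide +kernel
theorem cPZa122 : PZa (122 * 1000) 1000 := by decide +kernel
theorem cPZp122 : PZp (122 * 1000) 1000 := by decide +kernel
theorem cPCa122 : PCa (122 * 1000) 1000 := by decide +kernel
theorem cPCp122 : PCp (122 * 1000) 1000 := by decide +kernel
theorem cPInv123 : PInv (123 * 1000) 1000 := by decide +kernel
theorem cPPar123 : PPar (123 * 1000) 1000 := by decide +kernel
theorem cPCox123 : PCox (123 * 1000) 1000 := by decide +kernel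
theorem cPZa123 : PZa (123 * 1000) 1000 := by decide +kernel
theorem cPZp123 : PZp (123 * 1000) 1000 := by decide +kernel
theorem cPCa123 : PCa (123 * 1000) 1000 := by decide +kernel
theorem cPCp123 : PCp (123 * 1000) 1000 := by decide +kernel

end Cfsg.Agent.Helper19.Fi24Q
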