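import Cfsg.Agent.Helper19.Fi24Q.AuxT

set_option autoImplicit false
set_option linter.all false
set_option maxRecDepth 1000000
set_option maxHeartbeats 0

namespace Cfsg.Agent.Helper19.Fi24Q

theorem cPInv124 : PInv (124 * 1000) 1000 := by decide +kernel
theorem cPPar124 : PPar (124 * 1000) 1000 := by decide +kernel
theorem cPCox124 : PCox (124 * 1000) 1000 := by decide +kernel
theorem cPZa124 : PZa (124 * 1000) 1000 := by decide +kernel
theorem cPZp124 : PZp (124 * 1000) 1000 := by decide +kernel
theorem cPCa124 : PCa (124 * 1000) 1000 := by decide +kernel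
theorem cPCp124 : PCp (124 * 1000) 1000 := by decide +kernel
theorem cPInv125 : PInv (125 * 1000) 1000 := by decide +kernel
theorem cPPar125 : PPar (125 * 1000) 1000 := by decide +kernel
theorem cPCox125 : PCox (125 * 1000) 1000 := by decide +kernel
theorem cPZa125 : PZa (125 * 1000) 1000 := by decide +kernel
theorem cPZp125 : PZp (125 * 1000) 1000 := by decide +kernel
theorem cPCa125 : PCa (125 * 1000) 1000 := by decide +kernel
theorem cPCp125 : PCp (125 * 1000) 1000 := by decide +kernel
theorem cPInv126 : PInv (126 * 1000) 1000 := by decide +kernel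
theorem cPPar126 : PPar (126 * 1000) 1000 := by decide +kernel
theorem cPCox126 : PCox (126 * 1000) 1000 := by decide +kernel
theorem cPZa126 : PZa (126 * 1000) 1000 := by decide +kernel
theorem cPZp126 : PZp (126 * 1000) 1000 := by decide +kernel
theorem cPCa126 : PCa (126 * 1000) 1000 := by decide +kernel
theorem cPCp126 : PCp (126 * 1000) 1000 := by decide +kernel
theorem cPInv127 : PInv (127 * 1000) 1000 := by decide +kernel
theorem cPPar127 : PPar (127 * 1000) 1000 := by decide +kernel
theorem cPCox127 : PCox (127 * 1000) 1000 := by decide +kernel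
theorem cPZa127 : PZa (127 * 1000) 1000 := by decide +kernel
theorem cPZp127 : PZp (127 * 1000) 1000 := by decide +kernel
theorem cPCa127 : PCa (127 * 1000) 1000 := by decide +kernel
theorem cPCp127 : PCp (127 * 1000) 1000 := by decide +kernel

end Cfsg.Agent.Helper19.Fi24Q
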