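import Cfsg.Agent.Helper19.Fi24Q.AuxT

set_option autoImplicit false
set_option linter.all false
set_option maxRecDepth 1000000
set_option maxHeartbeats 0

namespace Cfsg.Agent.Helper19.Fi24Q

theorem cPInv128 : PInv (128 * 1000) 1000 := by decide +kernel
theorem cPPar128 : PPar (128 * 1000) 1000 := by decide +kernel
theorem cPCox128 : PCox (128 * 1000) 1000 := by decide +kernel
theorem cPZa128 : PZa (128 * 1000) 1000 := by decide +kernel
theorem cPZp128 : PZp (128 * 1000) 1000 := by decide +kernel
theorem cPCa128 : PCa (128 * 1000) 1000 := by decide +kernel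
theorem cPCp128 : PCp (128 * 1000) 1000 := by decide +kernel
theorem cPInv129 : PInv (129 * 1000) 1000 := by decide +kernel
theorem cPPar129 : PPar (129 * 1000) 1000 := by decide +kernel
theorem cPCox129 : PCox (129 * 1000) 1000 := by decide +kernel
theorem cPZa129 : PZa (129 * 1000) 1000 := by decide +kernel
theorem cPZp129 : PZp (129 * 1000) 1000 := by decide +kernel
theorem cPCa129 : PCa (129 * 1000) 1000 := by decide +kernel
theorem cPCp129 : PCp (129 * 1000) 1000 := by decide +kernel
theorem cPInv130 : PInv (130 * 1000) 1000 := by decide +kernel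
theorem cPPar130 : PPar (130 * 1000) 1000 := by decide +kernel
theorem cPCox130 : PCox (130 * 1000) 1000 := by decide +kernel
theorem cPZa130 : PZa (130 * 1000) 1000 := by decide +kernel
theorem cPZp130 : PZp (130 * 1000) 1000 := by decide +kernel
theorem cPCa130 : PCa (130 * 1000) 1000 := by decide +kernel
theorem cPCp130 : PCp (130 * 1000) 1000 := by decide +kernel
theorem cPInv131 : PInv (131 * 1000) 1000 := by decide +kernel
theorem cPPar131 : PPar (131 * 1000) 1000 := by decide +kernel
theorem cPCox131 : PCox (131 * 1000) 1000 := by decide +kernel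
theorem cPZa131 : PZa (131 * 1000) 1000 := by decide +kernel
theorem cPZp131 : PZp (131 * 1000) 1000 := by decide +kernel
theorem cPCa131 : PCa (131 * 1000) 1000 := by decide +kernel
theorem cPCp131 : PCp (131 * 1000) 1000 := by decide +kernel

end Cfsg.Agent.Helper19.Fi24Q
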