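import Cfsg.Agent.Helper19.Fi24Q.AuxT

set_option autoImplicit false
set_option linter.all false
set_option maxRecDepth 1000000
set_option maxHeartbeats 0

namespace Cfsg.Agent.Helper19.Fi24Q

theorem cPInv132 : PInv (132 * 1000) 1000 := by decide +kernel
theorem cPPar132 : PPar (132 * 1000) 1000 := by decide +kernel
theorem cPCox132 : PCox (132 * 1000) 1000 := by decide +kernel
theorem cPZa132 : PZa (132 * 1000) 1000 := by decide +kernel
theorem cPZp132 : PZp (132 * 1000) 1000 := by decide +kernel
theorem cPCa132 : PCa (132 * 1000) 1000 := by decide +kernel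
theorem cPCp132 : PCp (132 * 1000) 1000 := by decide +kernel
theorem cPInv133 : PInv (133 * 1000) 1000 := by decide +kernel
theorem cPPar133 : PPar (133 * 1000) 1000 := by decide +kernel
theorem cPCox133 : PCox (133 * 1000) 1000 := by decide +kernel
theorem cPZa133 : PZa (133 * 1000) 1000 := by decide +kernel
theorem cPZp133 : PZp (133 * 1000) 1000 := by decide +kernel
theorem cPCa133 : PCa (133 * 1000) 1000 := by decide +kernel
theorem cPCp133 : PCp (133 * 1000) 1000 := by decide +kernel
theorem cPInv134 : PInv (134 * 1000) 1000 := by decide +kernel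
theorem cPPar134 : PPar (134 * 1000) 1000 := by decide +kernel
theorem cPCox134 : PCox (134 * 1000) 1000 := by decide +kernel
theorem cPZa134 : PZa (134 * 1000) 1000 := by decide +kernel
theorem cPZp134 : PZp (134 * 1000) 1000 := by decide +kernel
theorem cPCa134 : PCa (134 * 1000) 1000 := by decide +kernel
theorem cPCp134 : PCp (134 * 1000) 1000 := by decide +kernel
theorem cPInv135 : PInv (135 * 1000) 1000 := by decide +kernel
theorem cPPar135 : PPar (135 * 1000) 1000 := by decide +kernel
theorem cPCox135 : PCox (135 * 1000) 1000 := by decide +kernel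
theorem cPZa135 : PZa (135 * 1000) 1000 := by decide +kernel
theorem cPZp135 : PZp (135 * 1000) 1000 := by decide +kernel
theorem cPCa135 : PCa (135 * 1000) 1000 := by decide +kernel
theorem cPCp135 : PCp (135 * 1000) 1000 := by decide +kernel

end Cfsg.Agent.Helper19.Fi24Q
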