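import Cfsg.Agent.Helper19.Fi24Q.AuxT

set_option autoImplicit false
set_option linter.all false
set_option maxRecDepth 1000000
set_option maxHeartbeats 0

namespace Cfsg.Agent.Helper19.Fi24Q

theorem cPInv136 : PInv (136 * 1000) 1000 := by decide +kernel
theorem cPPar136 : PPar (136 * 1000) 1000 := by decide +kernel
theorem cPCox136 : PCox (136 * 1000) 1000 := by decide +kernel
theorem cPZa136 : PZa (136 * 1000) 1000 := by decide +kernel
theorem cPZp136 : PZp (136 * 1000) 1000 := by decide +kernel
theorem cPCa136 : PCa (136 * 1000) 1000 := by decide +kernel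
theorem cPCp136 : PCp (136 * 1000) 1000 := by decide +kernel
theorem cPInv137 : PInv (137 * 1000) 1000 := by decide +kernel
theorem cPPar137 : PPar (137 * 1000) 1000 := by decide +kernel
theorem cPCox137 : PCox (137 * 1000) 1000 := by decide +kernel
theorem cPZa137 : PZa (137 * 1000) 1000 := by decide +kernel
theorem cPZp137 : PZp (137 * 1000) 1000 := by decide +kernel
theorem cPCa137 : PCa (137 * 1000) 1000 := by decide +kernel
theorem cPCp137 : PCp (137 * 1000) 1000 := by decide +kernel
theorem cPInv138 : PInv (138 * 1000) 1000 := by decide +kernel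
theorem cPPar138 : PPar (138 * 1000) 1000 := by decide +kernel
theorem cPCox138 : PCox (138 * 1000) 1000 := by decide +kernel
theorem cPZa138 : PZa (138 * 1000) 1000 := by decide +kernel
theorem cPZp138 : PZp (138 * 1000) 1000 := by decide +kernel
theorem cPCa138 : PCa (138 * 1000) 1000 := by decide +kernel
theorem cPCp138 : PCp (138 * 1000) 1000 := by decide +kernel
theorem cPInv139 : PInv (139 * 1000) 1000 := by decide +kernel
theorem cPPar139 : PPar (139 * 1000) 1000 := by decide +kernel
theorem cPCox139 : PCox (139 * 1000) 1000 := by decide +kernel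
theorem cPZa139 : PZa (139 * 1000) 1000 := by decide +kernel
theorem cPZp139 : PZp (139 * 1000) 1000 := by decide +kernel
theorem cPCa139 : PCa (139 * 1000) 1000 := by decide +kernel
theorem cPCp139 : PCp (139 * 1000) 1000 := by decide +kernel

end Cfsg.Agent.Helper19.Fi24Q
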