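import Cfsg.Agent.Helper19.Fi24Q.AuxT

set_option autoImplicit false
set_option linter.all false
set_option maxRecDepth 1000000
set_option maxHeartbeats 0

namespace Cfsg.Agent.Helper19.Fi24Q

theorem cPInv140 : PInv (140 * 1000) 1000 := by decide +kernel
theorem cPPar140 : PPar (140 * 1000) 1000 := by decide +kernel
theorem cPCox140 : PCox (140 * 1000) 1000 := by decide +kernel
theorem cPZa140 : PZa (140 * 1000) 1000 := by decide +kernel
theorem cPZp140 : PZp (140 * 1000) 1000 := by decide +kernel
theorem cPCa140 : PCa (140 * 1000) 1000 := by decide +kernel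
theorem cPCp140 : PCp (140 * 1000) 1000 := by decide +kernel
theorem cPInv141 : PInv (141 * 1000) 1000 := by decide +kernel
theorem cPPar141 : PPar (141 * 1000) 1000 := by decide +kernel
theorem cPCox141 : PCox (141 * 1000) 1000 := by decide +kernel
theorem cPZa141 : PZa (141 * 1000) 1000 := by decide +kernel
theorem cPZp141 : PZp (141 * 1000) 1000 := by decide +kernel
theorem cPCa141 : PCa (141 * 1000) 1000 := by decide +kernel
theorem cPCp141 : PCp (141 * 1000) 1000 := by decide +kernel
theorem cPInv142 : PInv (142 * 1000) 1000 := by decide +kernel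
theorem cPPar142 : PPar (142 * 1000) 1000 := by decide +kernel
theorem cPCox142 : PCox (142 * 1000) 1000 := by decide +kernel
theorem cPZa142 : PZa (142 * 1000) 1000 := by decide +kernel
theorem cPZp142 : PZp (142 * 1000) 1000 := by decide +kernel
theorem cPCa142 : PCa (142 * 1000) 1000 := by decide +kernel
theorem cPCp142 : PCp (142 * 1000) 1000 := by decide +kernel
theorem cPInv143 : PInv (143 * 1000) 1000 := by decide +kernel
theorem cPPar143 : PPar (143 * 1000) 1000 := by decide +kernel
theorem cPCox143 : PCox (143 * 1000) 1000 := by decide +kernel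
theorem cPZa143 : PZa (143 * 1000) 1000 := by decide +kernel
theorem cPZp143 : PZp (143 * 1000) 1000 := by decide +kernel
theorem cPCa143 : PCa (143 * 1000) 1000 := by decide +kernel
theorem cPCp143 : PCp (143 * 1000) 1000 := by decide +kernel

end Cfsg.Agent.Helper19.Fi24Q
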