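import Cfsg.Agent.Helper19.Fi24Q.AuxT

set_option autoImplicit false
set_option linter.all false
set_option maxRecDepth 1000000
set_option maxHeartbeats 0

namespace Cfsg.Agent.Helper19.Fi24Q

theorem cPInv144 : PInv (144 * 1000) 1000 := by decide +kernel
theorem cPPar144 : PPar (144 * 1000) 1000 := by decide +kernel
theorem cPCox144 : PCox (144 * 1000) 1000 := by decide +kernel
theorem cPZa144 : PZa (144 * 1000) 1000 := by decide +kernel
theorem cPZp144 : PZp (144 * 1000) 1000 := by decide +kernel
theorem cPCa144 : PCa (144 * 1000) 1000 := by decide +kernel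
theorem cPCp144 : PCp (144 * 1000) 1000 := by decide +kernel
theorem cPInv145 : PInv (145 * 1000) 1000 := by decide +kernel
theorem cPPar145 : PPar (145 * 1000) 1000 := by decide +kernel
theorem cPCox145 : PCox (145 * 1000) 1000 := by decide +kernel
theorem cPZa145 : PZa (145 * 1000) 1000 := by decide +kernel
theorem cPZp145 : PZp (145 * 1000) 1000 := by decide +kernel
theorem cPCa145 : PCa (145 * 1000) 1000 := by decide +kernel
theorem cPCp145 : PCp (145 * 1000) 1000 := by decide +kernel
theorem cPInv146 : PInv (146 * 1000) 1000 := by decide +kernel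
theorem cPPar146 : PPar (146 * 1000) 1000 := by decide +kernel
theorem cPCox146 : PCox (146 * 1000) 1000 := by decide +kernel
theorem cPZa146 : PZa (146 * 1000) 1000 := by decide +kernel
theorem cPZp146 : PZp (146 * 1000) 1000 := by decide +kernel
theorem cPCa146 : PCa (146 * 1000) 1000 := by decide +kernel
theorem cPCp146 : PCp (146 * 1000) 1000 := by decide +kernel
theorem cPInv147 : PInv (147 * 1000) 1000 := by decide +kernel
theorem cPPar147 : PPar (147 * 1000) 1000 := by decide +kernel
theorem cPCox147 : PCox (147 * 1000) 1000 := by decide +kernel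
theorem cPZa147 : PZa (147 * 1000) 1000 := by decide +kernel
theorem cPZp147 : PZp (147 * 1000) 1000 := by decide +kernel
theorem cPCa147 : PCa (147 * 1000) 1000 := by decide +kernel
theorem cPCp147 : PCp (147 * 1000) 1000 := by decide +kernel

end Cfsg.Agent.Helper19.Fi24Q
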