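import Cfsg.Agent.Helper19.Fi24Q.AuxT

set_option autoImplicit false
set_option linter.all false
set_option maxRecDepth 1000000
set_option maxHeartbeats 0

namespace Cfsg.Agent.Helper19.Fi24Q

theorem cPInv148 : PInv (148 * 1000) 1000 := by decide +kernel
theorem cPPar148 : PPar (148 * 1000) 1000 := by decide +kernel
theorem cPCox148 : PCox (148 * 1000) 1000 := by decide +kernel
theorem cPZa148 : PZa (148 * 1000) 1000 := by decide +kernel
theorem cPZp148 : PZp (148 * 1000) 1000 := by decide +kernel
theorem cPCa148 : PCa (148 * 1000) 1000 := by decide +kernel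
theorem cPCp148 : PCp (148 * 1000) 1000 := by decide +kernel
theorem cPInv149 : PInv (149 * 1000) 1000 := by decide +kernel
theorem cPPar149 : PPar (149 * 1000) 1000 := by decide +kernel
theorem cPCox149 : PCox (149 * 1000) 1000 := by decide +kernel
theorem cPZa149 : PZa (149 * 1000) 1000 := by decide +kernel
theorem cPZp149 : PZp (149 * 1000) 1000 := by decide +kernel
theorem cPCa149 : PCa (149 * 1000) 1000 := by decide +kernel
theorem cPCp149 : PCp (149 * 1000) 1000 := by decide +kernel
theorem cPInv150 : PInv (150 * 1000) 1000 := by decide +kernel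
theorem cPPar150 : PPar (150 * 1000) 1000 := by decide +kernel
theorem cPCox150 : PCox (150 * 1000) 1000 := by decide +kernel
theorem cPZa150 : PZa (150 * 1000) 1000 := by decide +kernel
theorem cPZp150 : PZp (150 * 1000) 1000 := by decide +kernel
theorem cPCa150 : PCa (150 * 1000) 1000 := by decide +kernel
theorem cPCp150 : PCp (150 * 1000) 1000 := by decide +kernel
theorem cPInv151 : PInv (151 * 1000) 1000 := by decide +kernel
theorem cPPar151 : PPar (151 * 1000) 1000 := by decide +kernel
theorem cPCox151 : PCox (151 * 1000) 1000 := by decide +kernel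
theorem cPZa151 : PZa (151 * 1000) 1000 := by decide +kernel
theorem cPZp151 : PZp (151 * 1000) 1000 := by decide +kernel
theorem cPCa151 : PCa (151 * 1000) 1000 := by decide +kernel
theorem cPCp151 : PCp (151 * 1000) 1000 := by decide +kernel

end Cfsg.Agent.Helper19.Fi24Q
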