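import Cfsg.Agent.Helper19.Fi24Q.AuxT

set_option autoImplicit false
set_option linter.all false
set_option maxRecDepth 1000000
set_option maxHeartbeats 0

namespace Cfsg.Agent.Helper19.Fi24Q

theorem cPInv152 : PInv (152 * 1000) 1000 := by decide +kernel
theorem cPPar152 : PPar (152 * 1000) 1000 := by decide +kernel
theorem cPCox152 : PCox (152 * 1000) 1000 := by decide +kernel
theorem cPZa152 : PZa (152 * 1000) 1000 := by decide +kernel
theorem cPZp152 : PZp (152 * 1000) 1000 := by decide +kernel
theorem cPCa152 : PCa (152 * 1000) 1000 := by decide +kernel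
theorem cPCp152 : PCp (152 * 1000) 1000 := by decide +kernel
theorem cPInv153 : PInv (153 * 1000) 1000 := by decide +kernel
theorem cPPar153 : PPar (153 * 1000) 1000 := by decide +kernel
theorem cPCox153 : PCox (153 * 1000) 1000 := by decide +kernel
theorem cPZa153 : PZa (153 * 1000) 1000 := by decide +kernel
theorem cPZp153 : PZp (153 * 1000) 1000 := by decide +kernel
theorem cPCa153 : PCa (153 * 1000) 1000 := by decide +kernel
theorem cPCp153 : PCp (153 * 1000) 1000 := by decide +kernel
theorem cPInv154 : PInv (154 * 1000) 1000 := by decide +kernel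
theorem cPPar154 : PPar (154 * 1000) 1000 := by decide +kernel
theorem cPCox154 : PCox (154 * 1000) 1000 := by decide +kernel
theorem cPZa154 : PZa (154 * 1000) 1000 := by decide +kernel
theorem cPZp154 : PZp (154 * 1000) 1000 := by decide +kernel
theorem cPCa154 : PCa (154 * 1000) 1000 := by decide +kernel
theorem cPCp154 : PCp (154 * 1000) 1000 := by decide +kernel
theorem cPInv155 : PInv (155 * 1000) 1000 := by decide +kernel
theorem cPPar155 : PPar (155 * 1000) 1000 := by decide +kernel
theorem cPCox155 : PCox (155 * 1000) 1000 := by decide +kernel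
theorem cPZa155 : PZa (155 * 1000) 1000 := by decide +kernel
theorem cPZp155 : PZp (155 * 1000) 1000 := by decide +kernel
theorem cPCa155 : PCa (155 * 1000) 1000 := by decide +kernel
theorem cPCp155 : PCp (155 * 1000) 1000 := by decide +kernel

end Cfsg.Agent.Helper19.Fi24Q
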