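import Cfsg.Agent.Helper19.Fi24Q.AuxT

set_option autoImplicit false
set_option linter.all false
set_option maxRecDepth 1000000
set_option maxHeartbeats 0

namespace Cfsg.Agent.Helper19.Fi24Q

theorem cPInv156 : PInv (156 * 1000) 1000 := by decide +kernel
theorem cPPar156 : PPar (156 * 1000) 1000 := by decide +kernel
theorem cPCox156 : PCox (156 * 1000) 1000 := by decide +kernel
theorem cPZa156 : PZa (156 * 1000) 1000 := by decide +kernel
theorem cPZp156 : PZp (156 * 1000) 1000 := by decide +kernel
theorem cPCa156 : PCa (156 * 1000) 1000 := by decide +kernel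
theorem cPCp156 : PCp (156 * 1000) 1000 := by decide +kernel
theorem cPInv157 : PInv (157 * 1000) 1000 := by decide +kernel
theorem cPPar157 : PPar (157 * 1000) 1000 := by decide +kernel
theorem cPCox157 : PCox (157 * 1000) 1000 := by decide +kernel
theorem cPZa157 : PZa (157 * 1000) 1000 := by decide +kernel
theorem cPZp157 : PZp (157 * 1000) 1000 := by decide +kernel
theorem cPCa157 : PCa (157 * 1000) 1000 := by decide +kernel
theorem cPCp157 : PCp (157 * 1000) 1000 := by decide +kernel
theorem cPInv158 : PInv (158 * 1000) 1000 := by decide +kernel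
theorem cPPar158 : PPar (158 * 1000) 1000 := by decide +kernel
theorem cPCox158 : PCox (158 * 1000) 1000 := by decide +kernel
theorem cPZa158 : PZa (158 * 1000) 1000 := by decide +kernel
theorem cPZp158 : PZp (158 * 1000) 1000 := by decide +kernel
theorem cPCa158 : PCa (158 * 1000) 1000 := by decide +kernel
theorem cPCp158 : PCp (158 * 1000) 1000 := by decide +kernel
theorem cPInv159 : PInv (159 * 1000) 1000 := by decide +kernel
theorem cPPar159 : PPar (159 * 1000) 1000 := by decide +kernel
theorem cPCox159 : PCox (159 * 1000) 1000 := by decide +kernel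
theorem cPZa159 : PZa (159 * 1000) 1000 := by decide +kernel
theorem cPZp159 : PZp (159 * 1000) 1000 := by decide +kernel
theorem cPCa159 : PCa (159 * 1000) 1000 := by decide +kernel
theorem cPCp159 : PCp (159 * 1000) 1000 := by decide +kernel

end Cfsg.Agent.Helper19.Fi24Q
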