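import Cfsg.Agent.Helper19.Fi24Q.AuxT

set_option autoImplicit false
set_option linter.all false
set_option maxRecDepth 1000000
set_option maxHeartbeats 0

namespace Cfsg.Agent.Helper19.Fi24Q

theorem cPInv16 : PInv (16 * 1000) 1000 := by decide +kernel
theorem cPPar16 : PPar (16 * 1000) 1000 := by decide +kernel
theorem cPCox16 : PCox (16 * 1000) 1000 := by decide +kernel
theorem cPZa16 : PZa (16 * 1000) 1000 := by decide +kernel
theorem cPZp16 : PZp (16 * 1000) 1000 := by decide +kernel
theorem cPCa16 : PCa (16 * 1000) 1000 := by decide +kernel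
theorem cPCp16 : PCp (16 * 1000) 1000 := by decide +kernel
theorem cPInv17 : PInv (17 * 1000) 1000 := by decide +kernel
theorem cPPar17 : PPar (17 * 1000) 1000 := by decide +kernel
theorem cPCox17 : PCox (17 * 1000) 1000 := by decide +kernel
theorem cPZa17 : PZa (17 * 1000) 1000 := by decide +kernel
theorem cPZp17 : PZp (17 * 1000) 1000 := by decide +kernel
theorem cPCa17 : PCa (17 * 1000) 1000 := by decide +kernel
theorem cPCp17 : PCp (17 * 1000) 1000 := by decide +kernel
theorem cPInv18 : PInv (18 * 1000) 1000 := by decide +kernel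
theorem cPPar18 : PPar (18 * 1000) 1000 := by decide +kernel
theorem cPCox18 : PCox (18 * 1000) 1000 := by decide +kernel
theorem cPZa18 : PZa (18 * 1000) 1000 := by decide +kernel
theorem cPZp18 : PZp (18 * 1000) 1000 := by decide +kernel
theorem cPCa18 : PCa (18 * 1000) 1000 := by decide +kernel
theorem cPCp18 : PCp (18 * 1000) 1000 := by decide +kernel
theorem cPInv19 : PInv (19 * 1000) 1000 := by decide +kernel
theorem cPPar19 : PPar (19 * 1000) 1000 := by decide +kernel
theorem cPCox19 : PCox (19 * 1000) 1000 := by decide +kernel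
theorem cPZa19 : PZa (19 * 1000) 1000 := by decide +kernel
theorem cPZp19 : PZp (19 * 1000) 1000 := by decide +kernel
theorem cPCa19 : PCa (19 * 1000) 1000 := by decide +kernel
theorem cPCp19 : PCp (19 * 1000) 1000 := by decide +kernel

end Cfsg.Agent.Helper19.Fi24Q
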