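import Cfsg.Agent.Helper19.Fi24Q.AuxT

set_option autoImplicit false
set_option linter.all false
set_option maxRecDepth 1000000
set_option maxHeartbeats 0

namespace Cfsg.Agent.Helper19.Fi24Q

theorem cPInv164 : PInv (164 * 1000) 1000 := by decide +kernel
theorem cPPar164 : PPar (164 * 1000) 1000 := by decide +kernel
theorem cPCox164 : PCox (164 * 1000) 1000 := by decide +kernel
theorem cPZa164 : PZa (164 * 1000) 1000 := by decide +kernel
theorem cPZp164 : PZp (164 * 1000) 1000 := by decide +kernel
theorem cPCa164 : PCa (164 * 1000) 1000 := by decide +kernel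
theorem cPCp164 : PCp (164 * 1000) 1000 := by decide +kernel
theorem cPInv165 : PInv (165 * 1000) 1000 := by decide +kernel
theorem cPPar165 : PPar (165 * 1000) 1000 := by decide +kernel
theorem cPCox165 : PCox (165 * 1000) 1000 := by decide +kernel
theorem cPZa165 : PZa (165 * 1000) 1000 := by decide +kernel
theorem cPZp165 : PZp (165 * 1000) 1000 := by decide +kernel
theorem cPCa165 : PCa (165 * 1000) 1000 := by decide +kernel
theorem cPCp165 : PCp (165 * 1000) 1000 := by decide +kernel
theorem cPInv166 : PInv (166 * 1000) 1000 := by decide +kernel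
theorem cPPar166 : PPar (166 * 1000) 1000 := by decide +kernel
theorem cPCox166 : PCox (166 * 1000) 1000 := by decide +kernel
theorem cPZa166 : PZa (166 * 1000) 1000 := by decide +kernel
theorem cPZp166 : PZp (166 * 1000) 1000 := by decide +kernel
theorem cPCa166 : PCa (166 * 1000) 1000 := by decide +kernel
theorem cPCp166 : PCp (166 * 1000) 1000 := by decide +kernel
theorem cPInv167 : PInv (167 * 1000) 1000 := by decide +kernel
theorem cPPar167 : PPar (167 * 1000) 1000 := by decide +kernel
theorem cPCox167 : PCox (167 * 1000) 1000 := by decide +kernel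
theorem cPZa167 : PZa (167 * 1000) 1000 := by decide +kernel
theorem cPZp167 : PZp (167 * 1000) 1000 := by decide +kernel
theorem cPCa167 : PCa (167 * 1000) 1000 := by decide +kernel
theorem cPCp167 : PCp (167 * 1000) 1000 := by decide +kernel

end Cfsg.Agent.Helper19.Fi24Q
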