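import Cfsg.Agent.Helper19.Fi24Q.AuxT

set_option autoImplicit false
set_option linter.all false
set_option maxRecDepth 1000000
set_option maxHeartbeats 0

namespace Cfsg.Agent.Helper19.Fi24Q

theorem cPInv168 : PInv (168 * 1000) 1000 := by decide +kernel
theorem cPPar168 : PPar (168 * 1000) 1000 := by decide +kernel
theorem cPCox168 : PCox (168 * 1000) 1000 := by decide +kernel
theorem cPZa168 : PZa (168 * 1000) 1000 := by decide +kernel
theorem cPZp168 : PZp (168 * 1000) 1000 := by decide +kernel
theorem cPCa168 : PCa (168 * 1000) 1000 := by decide +kernel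
theorem cPCp168 : PCp (168 * 1000) 1000 := by decide +kernel
theorem cPInv169 : PInv (169 * 1000) 1000 := by decide +kernel
theorem cPPar169 : PPar (169 * 1000) 1000 := by decide +kernel
theorem cPCox169 : PCox (169 * 1000) 1000 := by decide +kernel
theorem cPZa169 : PZa (169 * 1000) 1000 := by decide +kernel
theorem cPZp169 : PZp (169 * 1000) 1000 := by decide +kernel
theorem cPCa169 : PCa (169 * 1000) 1000 := by decide +kernel
theorem cPCp169 : PCp (169 * 1000) 1000 := by decide +kernel
theorem cPInv170 : PInv (170 * 1000) 1000 := by decide +kernel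
theorem cPPar170 : PPar (170 * 1000) 1000 := by decide +kernel
theorem cPCox170 : PCox (170 * 1000) 1000 := by decide +kernel
theorem cPZa170 : PZa (170 * 1000) 1000 := by decide +kernel
theorem cPZp170 : PZp (170 * 1000) 1000 := by decide +kernel
theorem cPCa170 : PCa (170 * 1000) 1000 := by decide +kernel
theorem cPCp170 : PCp (170 * 1000) 1000 := by decide +kernel
theorem cPInv171 : PInv (171 * 1000) 1000 := by decide +kernel
theorem cPPar171 : PPar (171 * 1000) 1000 := by decide +kernel
theorem cPCox171 : PCox (171 * 1000) 1000 := by decide +kernel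
theorem cPZa171 : PZa (171 * 1000) 1000 := by decide +kernel
theorem cPZp171 : PZp (171 * 1000) 1000 := by decide +kernel
theorem cPCa171 : PCa (171 * 1000) 1000 := by decide +kernel
theorem cPCp171 : PCp (171 * 1000) 1000 := by decide +kernel

end Cfsg.Agent.Helper19.Fi24Q
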