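import Cfsg.Agent.Helper19.Fi24Q.AuxT

set_option autoImplicit false
set_option linter.all false
set_option maxRecDepth 1000000
set_option maxHeartbeats 0

namespace Cfsg.Agent.Helper19.Fi24Q

theorem cPInv172 : PInv (172 * 1000) 1000 := by decide +kernel
theorem cPPar172 : PPar (172 * 1000) 1000 := by decide +kernel
theorem cPCox172 : PCox (172 * 1000) 1000 := by decide +kernel
theorem cPZa172 : PZa (172 * 1000) 1000 := by decide +kernel
theorem cPZp172 : PZp (172 * 1000) 1000 := by decide +kernel
theorem cPCa172 : PCa (172 * 1000) 1000 := by decide +kernel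
theorem cPCp172 : PCp (172 * 1000) 1000 := by decide +kernel
theorem cPInv173 : PInv (173 * 1000) 1000 := by decide +kernel
theorem cPPar173 : PPar (173 * 1000) 1000 := by decide +kernel
theorem cPCox173 : PCox (173 * 1000) 1000 := by decide +kernel
theorem cPZa173 : PZa (173 * 1000) 1000 := by decide +kernel
theorem cPZp173 : PZp (173 * 1000) 1000 := by decide +kernel
theorem cPCa173 : PCa (173 * 1000) 1000 := by decide +kernel
theorem cPCp173 : PCp (173 * 1000) 1000 := by decide +kernel
theorem cPInv174 : PInv (174 * 1000) 1000 := by decide +kernel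
theorem cPPar174 : PPar (174 * 1000) 1000 := by decide +kernel
theorem cPCox174 : PCox (174 * 1000) 1000 := by decide +kernel
theorem cPZa174 : PZa (174 * 1000) 1000 := by decide +kernel
theorem cPZp174 : PZp (174 * 1000) 1000 := by decide +kernel
theorem cPCa174 : PCa (174 * 1000) 1000 := by decide +kernel
theorem cPCp174 : PCp (174 * 1000) 1000 := by decide +kernel
theorem cPInv175 : PInv (175 * 1000) 1000 := by decide +kernel
theorem cPPar175 : PPar (175 * 1000) 1000 := by decide +kernel
theorem cPCox175 : PCox (175 * 1000) 1000 := by decide +kernel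
theorem cPZa175 : PZa (175 * 1000) 1000 := by decide +kernel
theorem cPZp175 : PZp (175 * 1000) 1000 := by decide +kernel
theorem cPCa175 : PCa (175 * 1000) 1000 := by decide +kernel
theorem cPCp175 : PCp (175 * 1000) 1000 := by decide +kernel

end Cfsg.Agent.Helper19.Fi24Q
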