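import Cfsg.Agent.Helper19.Fi24Q.AuxT

set_option autoImplicit false
set_option linter.all false
set_option maxRecDepth 1000000
set_option maxHeartbeats 0

namespace Cfsg.Agent.Helper19.Fi24Q

theorem cPInv176 : PInv (176 * 1000) 1000 := by decide +kernel
theorem cPPar176 : PPar (176 * 1000) 1000 := by decide +kernel
theorem cPCox176 : PCox (176 * 1000) 1000 := by decide +kernel
theorem cPZa176 : PZa (176 * 1000) 1000 := by decide +kernel
theorem cPZp176 : PZp (176 * 1000) 1000 := by decide +kernel
theorem cPCa176 : PCa (176 * 1000) 1000 := by decide +kernel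
theorem cPCp176 : PCp (176 * 1000) 1000 := by decide +kernel
theorem cPInv177 : PInv (177 * 1000) 1000 := by decide +kernel
theorem cPPar177 : PPar (177 * 1000) 1000 := by decide +kernel
theorem cPCox177 : PCox (177 * 1000) 1000 := by decide +kernel
theorem cPZa177 : PZa (177 * 1000) 1000 := by decide +kernel
theorem cPZp177 : PZp (177 * 1000) 1000 := by decide +kernel
theorem cPCa177 : PCa (177 * 1000) 1000 := by decide +kernel
theorem cPCp177 : PCp (177 * 1000) 1000 := by decide +kernel
theorem cPInv178 : PInv (178 * 1000) 1000 := by decide +kernel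
theorem cPPar178 : PPar (178 * 1000) 1000 := by decide +kernel
theorem cPCox178 : PCox (178 * 1000) 1000 := by decide +kernel
theorem cPZa178 : PZa (178 * 1000) 1000 := by decide +kernel
theorem cPZp178 : PZp (178 * 1000) 1000 := by decide +kernel
theorem cPCa178 : PCa (178 * 1000) 1000 := by decide +kernel
theorem cPCp178 : PCp (178 * 1000) 1000 := by decide +kernel
theorem cPInv179 : PInv (179 * 1000) 1000 := by decide +kernel
theorem cPPar179 : PPar (179 * 1000) 1000 := by decide +kernel
theorem cPCox179 : PCox (179 * 1000) 1000 := by decide +kernel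
theorem cPZa179 : PZa (179 * 1000) 1000 := by decide +kernel
theorem cPZp179 : PZp (179 * 1000) 1000 := by decide +kernel
theorem cPCa179 : PCa (179 * 1000) 1000 := by decide +kernel
theorem cPCp179 : PCp (179 * 1000) 1000 := by decide +kernel

end Cfsg.Agent.Helper19.Fi24Q
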