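import Cfsg.Agent.Helper19.Fi24Q.AuxT

set_option autoImplicit false
set_option linter.all false
set_option maxRecDepth 1000000
set_option maxHeartbeats 0

namespace Cfsg.Agent.Helper19.Fi24Q

theorem cPInv180 : PInv (180 * 1000) 1000 := by decide +kernel
theorem cPPar180 : PPar (180 * 1000) 1000 := by decide +kernel
theorem cPCox180 : PCox (180 * 1000) 1000 := by decide +kernel
theorem cPZa180 : PZa (180 * 1000) 1000 := by decide +kernel
theorem cPZp180 : PZp (180 * 1000) 1000 := by decide +kernel
theorem cPCa180 : PCa (180 * 1000) 1000 := by decide +kernel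
theorem cPCp180 : PCp (180 * 1000) 1000 := by decide +kernel
theorem cPInv181 : PInv (181 * 1000) 1000 := by decide +kernel
theorem cPPar181 : PPar (181 * 1000) 1000 := by decide +kernel
theorem cPCox181 : PCox (181 * 1000) 1000 := by decide +kernel
theorem cPZa181 : PZa (181 * 1000) 1000 := by decide +kernel
theorem cPZp181 : PZp (181 * 1000) 1000 := by decide +kernel
theorem cPCa181 : PCa (181 * 1000) 1000 := by decide +kernel
theorem cPCp181 : PCp (181 * 1000) 1000 := by decide +kernel
theorem cPInv182 : PInv (182 * 1000) 1000 := by decide +kernel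
theorem cPPar182 : PPar (182 * 1000) 1000 := by decide +kernel
theorem cPCox182 : PCox (182 * 1000) 1000 := by decide +kernel
theorem cPZa182 : PZa (182 * 1000) 1000 := by decide +kernel
theorem cPZp182 : PZp (182 * 1000) 1000 := by decide +kernel
theorem cPCa182 : PCa (182 * 1000) 1000 := by decide +kernel
theorem cPCp182 : PCp (182 * 1000) 1000 := by decide +kernel
theorem cPInv183 : PInv (183 * 1000) 1000 := by decide +kernel
theorem cPPar183 : PPar (183 * 1000) 1000 := by decide +kernel
theorem cPCox183 : PCox (183 * 1000) 1000 := by decide +kernel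
theorem cPZa183 : PZa (183 * 1000) 1000 := by decide +kernel
theorem cPZp183 : PZp (183 * 1000) 1000 := by decide +kernel
theorem cPCa183 : PCa (183 * 1000) 1000 := by decide +kernel
theorem cPCp183 : PCp (183 * 1000) 1000 := by decide +kernel

end Cfsg.Agent.Helper19.Fi24Q
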