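import Cfsg.Agent.Helper19.Fi24Q.AuxT

set_option autoImplicit false
set_option linter.all false
set_option maxRecDepth 1000000
set_option maxHeartbeats 0

namespace Cfsg.Agent.Helper19.Fi24Q

theorem cPInv184 : PInv (184 * 1000) 1000 := by decide +kernel
theorem cPPar184 : PPar (184 * 1000) 1000 := by decide +kernel
theorem cPCox184 : PCox (184 * 1000) 1000 := by decide +kernel
theorem cPZa184 : PZa (184 * 1000) 1000 := by decide +kernel
theorem cPZp184 : PZp (184 * 1000) 1000 := by decide +kernel
theorem cPCa184 : PCa (184 * 1000) 1000 := by decide +kernel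
theorem cPCp184 : PCp (184 * 1000) 1000 := by decide +kernel
theorem cPInv185 : PInv (185 * 1000) 1000 := by decide +kernel
theorem cPPar185 : PPar (185 * 1000) 1000 := by decide +kernel
theorem cPCox185 : PCox (185 * 1000) 1000 := by decide +kernel
theorem cPZa185 : PZa (185 * 1000) 1000 := by decide +kernel
theorem cPZp185 : PZp (185 * 1000) 1000 := by decide +kernel
theorem cPCa185 : PCa (185 * 1000) 1000 := by decide +kernel
theorem cPCp185 : PCp (185 * 1000) 1000 := by decide +kernel
theorem cPInv186 : PInv (186 * 1000) 1000 := by decide +kernel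
theorem cPPar186 : PPar (186 * 1000) 1000 := by decide +kernel
theorem cPCox186 : PCox (186 * 1000) 1000 := by decide +kernel
theorem cPZa186 : PZa (186 * 1000) 1000 := by decide +kernel
theorem cPZp186 : PZp (186 * 1000) 1000 := by decide +kernel
theorem cPCa186 : PCa (186 * 1000) 1000 := by decide +kernel
theorem cPCp186 : PCp (186 * 1000) 1000 := by decide +kernel
theorem cPInv187 : PInv (187 * 1000) 1000 := by decide +kernel
theorem cPPar187 : PPar (187 * 1000) 1000 := by decide +kernel
theorem cPCox187 : PCox (187 * 1000) 1000 := by decide +kernel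
theorem cPZa187 : PZa (187 * 1000) 1000 := by decide +kernel
theorem cPZp187 : PZp (187 * 1000) 1000 := by decide +kernel
theorem cPCa187 : PCa (187 * 1000) 1000 := by decide +kernel
theorem cPCp187 : PCp (187 * 1000) 1000 := by decide +kernel

end Cfsg.Agent.Helper19.Fi24Q
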