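import Cfsg.Agent.Helper19.Fi24Q.AuxT

set_option autoImplicit false
set_option linter.all false
set_option maxRecDepth 1000000
set_option maxHeartbeats 0

namespace Cfsg.Agent.Helper19.Fi24Q

theorem cPInv188 : PInv (188 * 1000) 1000 := by decide +kernel
theorem cPPar188 : PPar (188 * 1000) 1000 := by decide +kernel
theorem cPCox188 : PCox (188 * 1000) 1000 := by decide +kernel
theorem cPZa188 : PZa (188 * 1000) 1000 := by decide +kernel
theorem cPZp188 : PZp (188 * 1000) 1000 := by decide +kernel
theorem cPCa188 : PCa (188 * 1000) 1000 := by decide +kernel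
theorem cPCp188 : PCp (188 * 1000) 1000 := by decide +kernel
theorem cPInv189 : PInv (189 * 1000) 1000 := by decide +kernel
theorem cPPar189 : PPar (189 * 1000) 1000 := by decide +kernel
theorem cPCox189 : PCox (189 * 1000) 1000 := by decide +kernel
theorem cPZa189 : PZa (189 * 1000) 1000 := by decide +kernel
theorem cPZp189 : PZp (189 * 1000) 1000 := by decide +kernel
theorem cPCa189 : PCa (189 * 1000) 1000 := by decide +kernel
theorem cPCp189 : PCp (189 * 1000) 1000 := by decide +kernel
theorem cPInv190 : PInv (190 * 1000) 1000 := by decide +kernel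
theorem cPPar190 : PPar (190 * 1000) 1000 := by decide +kernel
theorem cPCox190 : PCox (190 * 1000) 1000 := by decide +kernel
theorem cPZa190 : PZa (190 * 1000) 1000 := by decide +kernel
theorem cPZp190 : PZp (190 * 1000) 1000 := by decide +kernel
theorem cPCa190 : PCa (190 * 1000) 1000 := by decide +kernel
theorem cPCp190 : PCp (190 * 1000) 1000 := by decide +kernel
theorem cPInv191 : PInv (191 * 1000) 1000 := by decide +kernel
theorem cPPar191 : PPar (191 * 1000) 1000 := by decide +kernel
theorem cPCox191 : PCox (191 * 1000) 1000 := by decide +kernel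
theorem cPZa191 : PZa (191 * 1000) 1000 := by decide +kernel
theorem cPZp191 : PZp (191 * 1000) 1000 := by decide +kernel
theorem cPCa191 : PCa (191 * 1000) 1000 := by decide +kernel
theorem cPCp191 : PCp (191 * 1000) 1000 := by decide +kernel

end Cfsg.Agent.Helper19.Fi24Q
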