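import Cfsg.Agent.Helper19.Fi24Q.AuxT

set_option autoImplicit false
set_option linter.all false
set_option maxRecDepth 1000000
set_option maxHeartbeats 0

namespace Cfsg.Agent.Helper19.Fi24Q

theorem cPInv192 : PInv (192 * 1000) 1000 := by decide +kernel
theorem cPPar192 : PPar (192 * 1000) 1000 := by decide +kernel
theorem cPCox192 : PCox (192 * 1000) 1000 := by decide +kernel
theorem cPZa192 : PZa (192 * 1000) 1000 := by decide +kernel
theorem cPZp192 : PZp (192 * 1000) 1000 := by decide +kernel
theorem cPCa192 : PCa (192 * 1000) 1000 := by decide +kernel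
theorem cPCp192 : PCp (192 * 1000) 1000 := by decide +kernel
theorem cPInv193 : PInv (193 * 1000) 1000 := by decide +kernel
theorem cPPar193 : PPar (193 * 1000) 1000 := by decide +kernel
theorem cPCox193 : PCox (193 * 1000) 1000 := by decide +kernel
theorem cPZa193 : PZa (193 * 1000) 1000 := by decide +kernel
theorem cPZp193 : PZp (193 * 1000) 1000 := by decide +kernel
theorem cPCa193 : PCa (193 * 1000) 1000 := by decide +kernel
theorem cPCp193 : PCp (193 * 1000) 1000 := by decide +kernel
theorem cPInv194 : PInv (194 * 1000) 1000 := by decide +kernel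
theorem cPPar194 : PPar (194 * 1000) 1000 := by decide +kernel
theorem cPCox194 : PCox (194 * 1000) 1000 := by decide +kernel
theorem cPZa194 : PZa (194 * 1000) 1000 := by decide +kernel
theorem cPZp194 : PZp (194 * 1000) 1000 := by decide +kernel
theorem cPCa194 : PCa (194 * 1000) 1000 := by decide +kernel
theorem cPCp194 : PCp (194 * 1000) 1000 := by decide +kernel
theorem cPInv195 : PInv (195 * 1000) 1000 := by decide +kernel
theorem cPPar195 : PPar (195 * 1000) 1000 := by decide +kernel
theorem cPCox195 : PCox (195 * 1000) 1000 := by decide +kernel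
theorem cPZa195 : PZa (195 * 1000) 1000 := by decide +kernel
theorem cPZp195 : PZp (195 * 1000) 1000 := by decide +kernel
theorem cPCa195 : PCa (195 * 1000) 1000 := by decide +kernel
theorem cPCp195 : PCp (195 * 1000) 1000 := by decide +kernel

end Cfsg.Agent.Helper19.Fi24Q
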