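import Cfsg.Agent.Helper19.Fi24Q.AuxT

set_option autoImplicit false
set_option linter.all false
set_option maxRecDepth 1000000
set_option maxHeartbeats 0

namespace Cfsg.Agent.Helper19.Fi24Q

theorem cPInv196 : PInv (196 * 1000) 1000 := by decide +kernel
theorem cPPar196 : PPar (196 * 1000) 1000 := by decide +kernel
theorem cPCox196 : PCox (196 * 1000) 1000 := by decide +kernel
theorem cPZa196 : PZa (196 * 1000) 1000 := by decide +kernel
theorem cPZp196 : PZp (196 * 1000) 1000 := by decide +kernel
theorem cPCa196 : PCa (196 * 1000) 1000 := by decide +kernel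
theorem cPCp196 : PCp (196 * 1000) 1000 := by decide +kernel
theorem cPInv197 : PInv (197 * 1000) 1000 := by decide +kernel
theorem cPPar197 : PPar (197 * 1000) 1000 := by decide +kernel
theorem cPCox197 : PCox (197 * 1000) 1000 := by decide +kernel
theorem cPZa197 : PZa (197 * 1000) 1000 := by decide +kernel
theorem cPZp197 : PZp (197 * 1000) 1000 := by decide +kernel
theorem cPCa197 : PCa (197 * 1000) 1000 := by decide +kernel
theorem cPCp197 : PCp (197 * 1000) 1000 := by decide +kernel
theorem cPInv198 : PInv (198 * 1000) 1000 := by decide +kernel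
theorem cPPar198 : PPar (198 * 1000) 1000 := by decide +kernel
theorem cPCox198 : PCox (198 * 1000) 1000 := by decide +kernel
theorem cPZa198 : PZa (198 * 1000) 1000 := by decide +kernel
theorem cPZp198 : PZp (198 * 1000) 1000 := by decide +kernel
theorem cPCa198 : PCa (198 * 1000) 1000 := by decide +kernel
theorem cPCp198 : PCp (198 * 1000) 1000 := by decide +kernel
theorem cPInv199 : PInv (199 * 1000) 1000 := by decide +kernel
theorem cPPar199 : PPar (199 * 1000) 1000 := by decide +kernel
theorem cPCox199 : PCox (199 * 1000) 1000 := by decide +kernel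
theorem cPZa199 : PZa (199 * 1000) 1000 := by decide +kernel
theorem cPZp199 : PZp (199 * 1000) 1000 := by decide +kernel
theorem cPCa199 : PCa (199 * 1000) 1000 := by decide +kernel
theorem cPCp199 : PCp (199 * 1000) 1000 := by decide +kernel

end Cfsg.Agent.Helper19.Fi24Q
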