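import Cfsg.Agent.Helper19.Fi24Q.AuxT

set_option autoImplicit false
set_option linter.all false
set_option maxRecDepth 1000000
set_option maxHeartbeats 0

namespace Cfsg.Agent.Helper19.Fi24Q

theorem cPInv20 : PInv (20 * 1000) 1000 := by decide +kernel
theorem cPPar20 : PPar (20 * 1000) 1000 := by decide +kernel
theorem cPCox20 : PCox (20 * 1000) 1000 := by decide +kernel
theorem cPZa20 : PZa (20 * 1000) 1000 := by decide +kernel
theorem cPZp20 : PZp (20 * 1000) 1000 := by decide +kernel
theorem cPCa20 : PCa (20 * 1000) 1000 := by decide +kernel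
theorem cPCp20 : PCp (20 * 1000) 1000 := by decide +kernel
theorem cPInv21 : PInv (21 * 1000) 1000 := by decide +kernel
theorem cPPar21 : PPar (21 * 1000) 1000 := by decide +kernel
theorem cPCox21 : PCox (21 * 1000) 1000 := by decide +kernel
theorem cPZa21 : PZa (21 * 1000) 1000 := by decide +kernel
theorem cPZp21 : PZp (21 * 1000) 1000 := by decide +kernel
theorem cPCa21 : PCa (21 * 1000) 1000 := by decide +kernel
theorem cPCp21 : PCp (21 * 1000) 1000 := by decide +kernel
theorem cPInv22 : PInv (22 * 1000) 1000 := by decide +kernel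
theorem cPPar22 : PPar (22 * 1000) 1000 := by decide +kernel
theorem cPCox22 : PCox (22 * 1000) 1000 := by decide +kernel
theorem cPZa22 : PZa (22 * 1000) 1000 := by decide +kernel
theorem cPZp22 : PZp (22 * 1000) 1000 := by decide +kernel
theorem cPCa22 : PCa (22 * 1000) 1000 := by decide +kernel
theorem cPCp22 : PCp (22 * 1000) 1000 := by decide +kernel
theorem cPInv23 : PInv (23 * 1000) 1000 := by decide +kernel
theorem cPPar23 : PPar (23 * 1000) 1000 := by decide +kernel
theorem cPCox23 : PCox (23 * 1000) 1000 := by decide +kernel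
theorem cPZa23 : PZa (23 * 1000) 1000 := by decide +kernel
theorem cPZp23 : PZp (23 * 1000) 1000 := by decide +kernel
theorem cPCa23 : PCa (23 * 1000) 1000 := by decide +kernel
theorem cPCp23 : PCp (23 * 1000) 1000 := by decide +kernel

end Cfsg.Agent.Helper19.Fi24Q
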