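import Cfsg.Agent.Helper19.Fi24Q.AuxT

set_option autoImplicit false
set_option linter.all false
set_option maxRecDepth 1000000
set_option maxHeartbeats 0

namespace Cfsg.Agent.Helper19.Fi24Q

theorem cPInv200 : PInv (200 * 1000) 1000 := by decide +kernel
theorem cPPar200 : PPar (200 * 1000) 1000 := by decide +kernel
theorem cPCox200 : PCox (200 * 1000) 1000 := by decide +kernel
theorem cPZa200 : PZa (200 * 1000) 1000 := by decide +kernel
theorem cPZp200 : PZp (200 * 1000) 1000 := by decide +kernel
theorem cPCa200 : PCa (200 * 1000) 1000 := by decide +kernel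
theorem cPCp200 : PCp (200 * 1000) 1000 := by decide +kernel
theorem cPInv201 : PInv (201 * 1000) 1000 := by decide +kernel
theorem cPPar201 : PPar (201 * 1000) 1000 := by decide +kernel
theorem cPCox201 : PCox (201 * 1000) 1000 := by decide +kernel
theorem cPZa201 : PZa (201 * 1000) 1000 := by decide +kernel
theorem cPZp201 : PZp (201 * 1000) 1000 := by decide +kernel
theorem cPCa201 : PCa (201 * 1000) 1000 := by decide +kernel
theorem cPCp201 : PCp (201 * 1000) 1000 := by decide +kernel
theorem cPInv202 : PInv (202 * 1000) 1000 := by decide +kernel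
theorem cPPar202 : PPar (202 * 1000) 1000 := by decide +kernel
theorem cPCox202 : PCox (202 * 1000) 1000 := by decide +kernel
theorem cPZa202 : PZa (202 * 1000) 1000 := by decide +kernel
theorem cPZp202 : PZp (202 * 1000) 1000 := by decide +kernel
theorem cPCa202 : PCa (202 * 1000) 1000 := by decide +kernel
theorem cPCp202 : PCp (202 * 1000) 1000 := by decide +kernel
theorem cPInv203 : PInv (203 * 1000) 1000 := by decide +kernel
theorem cPPar203 : PPar (203 * 1000) 1000 := by decide +kernel
theorem cPCox203 : PCox (203 * 1000) 1000 := by decide +kernel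
theorem cPZa203 : PZa (203 * 1000) 1000 := by decide +kernel
theorem cPZp203 : PZp (203 * 1000) 1000 := by decide +kernel
theorem cPCa203 : PCa (203 * 1000) 1000 := by decide +kernel
theorem cPCp203 : PCp (203 * 1000) 1000 := by decide +kernel

end Cfsg.Agent.Helper19.Fi24Q
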