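import Cfsg.Agent.Helper19.Fi24Q.AuxT

set_option autoImplicit false
set_option linter.all false
set_option maxRecDepth 1000000
set_option maxHeartbeats 0

namespace Cfsg.Agent.Helper19.Fi24Q

theorem cPInv204 : PInv (204 * 1000) 1000 := by decide +kernel
theorem cPPar204 : PPar (204 * 1000) 1000 := by decide +kernel
theorem cPCox204 : PCox (204 * 1000) 1000 := by decide +kernel
theorem cPZa204 : PZa (204 * 1000) 1000 := by decide +kernel
theorem cPZp204 : PZp (204 * 1000) 1000 := by decide +kernel
theorem cPCa204 : PCa (204 * 1000) 1000 := by decide +kernel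
theorem cPCp204 : PCp (204 * 1000) 1000 := by decide +kernel
theorem cPInv205 : PInv (205 * 1000) 1000 := by decide +kernel
theorem cPPar205 : PPar (205 * 1000) 1000 := by decide +kernel
theorem cPCox205 : PCox (205 * 1000) 1000 := by decide +kernel
theorem cPZa205 : PZa (205 * 1000) 1000 := by decide +kernel
theorem cPZp205 : PZp (205 * 1000) 1000 := by decide +kernel
theorem cPCa205 : PCa (205 * 1000) 1000 := by decide +kernel
theorem cPCp205 : PCp (205 * 1000) 1000 := by decide +kernel
theorem cPInv206 : PInv (206 * 1000) 1000 := by decide +kernel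
theorem cPPar206 : PPar (206 * 1000) 1000 := by decide +kernel
theorem cPCox206 : PCox (206 * 1000) 1000 := by decide +kernel
theorem cPZa206 : PZa (206 * 1000) 1000 := by decide +kernel
theorem cPZp206 : PZp (206 * 1000) 1000 := by decide +kernel
theorem cPCa206 : PCa (206 * 1000) 1000 := by decide +kernel
theorem cPCp206 : PCp (206 * 1000) 1000 := by decide +kernel
theorem cPInv207 : PInv (207 * 1000) 1000 := by decide +kernel
theorem cPPar207 : PPar (207 * 1000) 1000 := by decide +kernel
theorem cPCox207 : PCox (207 * 1000) 1000 := by decide +kernel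
theorem cPZa207 : PZa (207 * 1000) 1000 := by decide +kernel
theorem cPZp207 : PZp (207 * 1000) 1000 := by decide +kernel
theorem cPCa207 : PCa (207 * 1000) 1000 := by decide +kernel
theorem cPCp207 : PCp (207 * 1000) 1000 := by decide +kernel

end Cfsg.Agent.Helper19.Fi24Q
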