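import Cfsg.Agent.Helper19.Fi24Q.AuxT

set_option autoImplicit false
set_option linter.all false
set_option maxRecDepth 1000000
set_option maxHeartbeats 0

namespace Cfsg.Agent.Helper19.Fi24Q

theorem cPInv208 : PInv (208 * 1000) 1000 := by decide +kernel
theorem cPPar208 : PPar (208 * 1000) 1000 := by decide +kernel
theorem cPCox208 : PCox (208 * 1000) 1000 := by decide +kernel
theorem cPZa208 : PZa (208 * 1000) 1000 := by decide +kernel
theorem cPZp208 : PZp (208 * 1000) 1000 := by decide +kernel
theorem cPCa208 : PCa (208 * 1000) 1000 := by decide +kernel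
theorem cPCp208 : PCp (208 * 1000) 1000 := by decide +kernel
theorem cPInv209 : PInv (209 * 1000) 1000 := by decide +kernel
theorem cPPar209 : PPar (209 * 1000) 1000 := by decide +kernel
theorem cPCox209 : PCox (209 * 1000) 1000 := by decide +kernel
theorem cPZa209 : PZa (209 * 1000) 1000 := by decide +kernel
theorem cPZp209 : PZp (209 * 1000) 1000 := by decide +kernel
theorem cPCa209 : PCa (209 * 1000) 1000 := by decide +kernel
theorem cPCp209 : PCp (209 * 1000) 1000 := by decide +kernel
theorem cPInv210 : PInv (210 * 1000) 1000 := by decide +kernel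
theorem cPPar210 : PPar (210 * 1000) 1000 := by decide +kernel
theorem cPCox210 : PCox (210 * 1000) 1000 := by decide +kernel
theorem cPZa210 : PZa (210 * 1000) 1000 := by decide +kernel
theorem cPZp210 : PZp (210 * 1000) 1000 := by decide +kernel
theorem cPCa210 : PCa (210 * 1000) 1000 := by decide +kernel
theorem cPCp210 : PCp (210 * 1000) 1000 := by decide +kernel
theorem cPInv211 : PInv (211 * 1000) 1000 := by decide +kernel
theorem cPPar211 : PPar (211 * 1000) 1000 := by decide +kernel
theorem cPCox211 : PCox (211 * 1000) 1000 := by decide +kernel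
theorem cPZa211 : PZa (211 * 1000) 1000 := by decide +kernel
theorem cPZp211 : PZp (211 * 1000) 1000 := by decide +kernel
theorem cPCa211 : PCa (211 * 1000) 1000 := by decide +kernel
theorem cPCp211 : PCp (211 * 1000) 1000 := by decide +kernel

end Cfsg.Agent.Helper19.Fi24Q
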