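import Cfsg.Agent.Helper19.Fi24Q.AuxT

set_option autoImplicit false
set_option linter.all false
set_option maxRecDepth 1000000
set_option maxHeartbeats 0

namespace Cfsg.Agent.Helper19.Fi24Q

theorem cPInv212 : PInv (212 * 1000) 1000 := by decide +kernel
theorem cPPar212 : PPar (212 * 1000) 1000 := by decide +kernel
theorem cPCox212 : PCox (212 * 1000) 1000 := by decide +kernel
theorem cPZa212 : PZa (212 * 1000) 1000 := by decide +kernel
theorem cPZp212 : PZp (212 * 1000) 1000 := by decide +kernel
theorem cPCa212 : PCa (212 * 1000) 1000 := by decide +kernel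
theorem cPCp212 : PCp (212 * 1000) 1000 := by decide +kernel
theorem cPInv213 : PInv (213 * 1000) 1000 := by decide +kernel
theorem cPPar213 : PPar (213 * 1000) 1000 := by decide +kernel
theorem cPCox213 : PCox (213 * 1000) 1000 := by decide +kernel
theorem cPZa213 : PZa (213 * 1000) 1000 := by decide +kernel
theorem cPZp213 : PZp (213 * 1000) 1000 := by decide +kernel
theorem cPCa213 : PCa (213 * 1000) 1000 := by decide +kernel
theorem cPCp213 : PCp (213 * 1000) 1000 := by decide +kernel
theorem cPInv214 : PInv (214 * 1000) 1000 := by decide +kernel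
theorem cPPar214 : PPar (214 * 1000) 1000 := by decide +kernel
theorem cPCox214 : PCox (214 * 1000) 1000 := by decide +kernel
theorem cPZa214 : PZa (214 * 1000) 1000 := by decide +kernel
theorem cPZp214 : PZp (214 * 1000) 1000 := by decide +kernel
theorem cPCa214 : PCa (214 * 1000) 1000 := by decide +kernel
theorem cPCp214 : PCp (214 * 1000) 1000 := by decide +kernel
theorem cPInv215 : PInv (215 * 1000) 1000 := by decide +kernel
theorem cPPar215 : PPar (215 * 1000) 1000 := by decide +kernel
theorem cPCox215 : PCox (215 * 1000) 1000 := by decide +kernel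
theorem cPZa215 : PZa (215 * 1000) 1000 := by decide +kernel
theorem cPZp215 : PZp (215 * 1000) 1000 := by decide +kernel
theorem cPCa215 : PCa (215 * 1000) 1000 := by decide +kernel
theorem cPCp215 : PCp (215 * 1000) 1000 := by decide +kernel

end Cfsg.Agent.Helper19.Fi24Q
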