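import Cfsg.Agent.Helper19.Fi24Q.AuxT

set_option autoImplicit false
set_option linter.all false
set_option maxRecDepth 1000000
set_option maxHeartbeats 0

namespace Cfsg.Agent.Helper19.Fi24Q

theorem cPInv220 : PInv (220 * 1000) 1000 := by decide +kernel
theorem cPPar220 : PPar (220 * 1000) 1000 := by decide +kernel
theorem cPCox220 : PCox (220 * 1000) 1000 := by decide +kernel
theorem cPZa220 : PZa (220 * 1000) 1000 := by decide +kernel
theorem cPZp220 : PZp (220 * 1000) 1000 := by decide +kernel
theorem cPCa220 : PCa (220 * 1000) 1000 := by decide +kernel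
theorem cPCp220 : PCp (220 * 1000) 1000 := by decide +kernel
theorem cPInv221 : PInv (221 * 1000) 1000 := by decide +kernel
theorem cPPar221 : PPar (221 * 1000) 1000 := by decide +kernel
theorem cPCox221 : PCox (221 * 1000) 1000 := by decide +kernel
theorem cPZa221 : PZa (221 * 1000) 1000 := by decide +kernel
theorem cPZp221 : PZp (221 * 1000) 1000 := by decide +kernel
theorem cPCa221 : PCa (221 * 1000) 1000 := by decide +kernel
theorem cPCp221 : PCp (221 * 1000) 1000 := by decide +kernel
theorem cPInv222 : PInv (222 * 1000) 1000 := by decide +kernel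
theorem cPPar222 : PPar (222 * 1000) 1000 := by decide +kernel
theorem cPCox222 : PCox (222 * 1000) 1000 := by decide +kernel
theorem cPZa222 : PZa (222 * 1000) 1000 := by decide +kernel
theorem cPZp222 : PZp (222 * 1000) 1000 := by decide +kernel
theorem cPCa222 : PCa (222 * 1000) 1000 := by decide +kernel
theorem cPCp222 : PCp (222 * 1000) 1000 := by decide +kernel
theorem cPInv223 : PInv (223 * 1000) 1000 := by decide +kernel
theorem cPPar223 : PPar (223 * 1000) 1000 := by decide +kernel
theorem cPCox223 : PCox (223 * 1000) 1000 := by decide +kernel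
theorem cPZa223 : PZa (223 * 1000) 1000 := by decide +kernel
theorem cPZp223 : PZp (223 * 1000) 1000 := by decide +kernel
theorem cPCa223 : PCa (223 * 1000) 1000 := by decide +kernel
theorem cPCp223 : PCp (223 * 1000) 1000 := by decide +kernel

end Cfsg.Agent.Helper19.Fi24Q
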