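import Cfsg.Agent.Helper19.Fi24Q.AuxT

set_option autoImplicit false
set_option linter.all false
set_option maxRecDepth 1000000
set_option maxHeartbeats 0

namespace Cfsg.Agent.Helper19.Fi24Q

theorem cPInv224 : PInv (224 * 1000) 1000 := by decide +kernel
theorem cPPar224 : PPar (224 * 1000) 1000 := by decide +kernel
theorem cPCox224 : PCox (224 * 1000) 1000 := by decide +kernel
theorem cPZa224 : PZa (224 * 1000) 1000 := by decide +kernel
theorem cPZp224 : PZp (224 * 1000) 1000 := by decide +kernel
theorem cPCa224 : PCa (224 * 1000) 1000 := by decide +kernel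
theorem cPCp224 : PCp (224 * 1000) 1000 := by decide +kernel
theorem cPInv225 : PInv (225 * 1000) 1000 := by decide +kernel
theorem cPPar225 : PPar (225 * 1000) 1000 := by decide +kernel
theorem cPCox225 : PCox (225 * 1000) 1000 := by decide +kernel
theorem cPZa225 : PZa (225 * 1000) 1000 := by decide +kernel
theorem cPZp225 : PZp (225 * 1000) 1000 := by decide +kernel
theorem cPCa225 : PCa (225 * 1000) 1000 := by decide +kernel
theorem cPCp225 : PCp (225 * 1000) 1000 := by decide +kernel
theorem cPInv226 : PInv (226 * 1000) 1000 := by decide +kernel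
theorem cPPar226 : PPar (226 * 1000) 1000 := by decide +kernel
theorem cPCox226 : PCox (226 * 1000) 1000 := by decide +kernel
theorem cPZa226 : PZa (226 * 1000) 1000 := by decide +kernel
theorem cPZp226 : PZp (226 * 1000) 1000 := by decide +kernel
theorem cPCa226 : PCa (226 * 1000) 1000 := by decide +kernel
theorem cPCp226 : PCp (226 * 1000) 1000 := by decide +kernel
theorem cPInv227 : PInv (227 * 1000) 1000 := by decide +kernel
theorem cPPar227 : PPar (227 * 1000) 1000 := by decide +kernel
theorem cPCox227 : PCox (227 * 1000) 1000 := by decide +kernel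
theorem cPZa227 : PZa (227 * 1000) 1000 := by decide +kernel
theorem cPZp227 : PZp (227 * 1000) 1000 := by decide +kernel
theorem cPCa227 : PCa (227 * 1000) 1000 := by decide +kernel
theorem cPCp227 : PCp (227 * 1000) 1000 := by decide +kernel

end Cfsg.Agent.Helper19.Fi24Q
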