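import Cfsg.Agent.Helper19.Fi24Q.AuxT

set_option autoImplicit false
set_option linter.all false
set_option maxRecDepth 1000000
set_option maxHeartbeats 0

namespace Cfsg.Agent.Helper19.Fi24Q

theorem cPInv228 : PInv (228 * 1000) 1000 := by decide +kernel
theorem cPPar228 : PPar (228 * 1000) 1000 := by decide +kernel
theorem cPCox228 : PCox (228 * 1000) 1000 := by decide +kernel
theorem cPZa228 : PZa (228 * 1000) 1000 := by decide +kernel
theorem cPZp228 : PZp (228 * 1000) 1000 := by decide +kernel
theorem cPCa228 : PCa (228 * 1000) 1000 := by decide +kernel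
theorem cPCp228 : PCp (228 * 1000) 1000 := by decide +kernel
theorem cPInv229 : PInv (229 * 1000) 1000 := by decide +kernel
theorem cPPar229 : PPar (229 * 1000) 1000 := by decide +kernel
theorem cPCox229 : PCox (229 * 1000) 1000 := by decide +kernel
theorem cPZa229 : PZa (229 * 1000) 1000 := by decide +kernel
theorem cPZp229 : PZp (229 * 1000) 1000 := by decide +kernel
theorem cPCa229 : PCa (229 * 1000) 1000 := by decide +kernel
theorem cPCp229 : PCp (229 * 1000) 1000 := by decide +kernel
theorem cPInv230 : PInv (230 * 1000) 1000 := by decide +kernel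
theorem cPPar230 : PPar (230 * 1000) 1000 := by decide +kernel
theorem cPCox230 : PCox (230 * 1000) 1000 := by decide +kernel
theorem cPZa230 : PZa (230 * 1000) 1000 := by decide +kernel
theorem cPZp230 : PZp (230 * 1000) 1000 := by decide +kernel
theorem cPCa230 : PCa (230 * 1000) 1000 := by decide +kernel
theorem cPCp230 : PCp (230 * 1000) 1000 := by decide +kernel
theorem cPInv231 : PInv (231 * 1000) 1000 := by decide +kernel
theorem cPPar231 : PPar (231 * 1000) 1000 := by decide +kernel
theorem cPCox231 : PCox (231 * 1000) 1000 := by decide +kernel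
theorem cPZa231 : PZa (231 * 1000) 1000 := by decide +kernel
theorem cPZp231 : PZp (231 * 1000) 1000 := by decide +kernel
theorem cPCa231 : PCa (231 * 1000) 1000 := by decide +kernel
theorem cPCp231 : PCp (231 * 1000) 1000 := by decide +kernel

end Cfsg.Agent.Helper19.Fi24Q
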