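import Cfsg.Agent.Helper19.Fi24Q.AuxT

set_option autoImplicit false
set_option linter.all false
set_option maxRecDepth 1000000
set_option maxHeartbeats 0

namespace Cfsg.Agent.Helper19.Fi24Q

theorem cPInv232 : PInv (232 * 1000) 1000 := by decide +kernel
theorem cPPar232 : PPar (232 * 1000) 1000 := by decide +kernel
theorem cPCox232 : PCox (232 * 1000) 1000 := by decide +kernel
theorem cPZa232 : PZa (232 * 1000) 1000 := by decide +kernel
theorem cPZp232 : PZp (232 * 1000) 1000 := by decide +kernel
theorem cPCa232 : PCa (232 * 1000) 1000 := by decide +kernel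
theorem cPCp232 : PCp (232 * 1000) 1000 := by decide +kernel
theorem cPInv233 : PInv (233 * 1000) 1000 := by decide +kernel
theorem cPPar233 : PPar (233 * 1000) 1000 := by decide +kernel
theorem cPCox233 : PCox (233 * 1000) 1000 := by decide +kernel
theorem cPZa233 : PZa (233 * 1000) 1000 := by decide +kernel
theorem cPZp233 : PZp (233 * 1000) 1000 := by decide +kernel
theorem cPCa233 : PCa (233 * 1000) 1000 := by decide +kernel
theorem cPCp233 : PCp (233 * 1000) 1000 := by decide +kernel
theorem cPInv234 : PInv (234 * 1000) 1000 := by decide +kernel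
theorem cPPar234 : PPar (234 * 1000) 1000 := by decide +kernel
theorem cPCox234 : PCox (234 * 1000) 1000 := by decide +kernel
theorem cPZa234 : PZa (234 * 1000) 1000 := by decide +kernel
theorem cPZp234 : PZp (234 * 1000) 1000 := by decide +kernel
theorem cPCa234 : PCa (234 * 1000) 1000 := by decide +kernel
theorem cPCp234 : PCp (234 * 1000) 1000 := by decide +kernel
theorem cPInv235 : PInv (235 * 1000) 1000 := by decide +kernel
theorem cPPar235 : PPar (235 * 1000) 1000 := by decide +kernel
theorem cPCox235 : PCox (235 * 1000) 1000 := by decide +kernel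
theorem cPZa235 : PZa (235 * 1000) 1000 := by decide +kernel
theorem cPZp235 : PZp (235 * 1000) 1000 := by decide +kernel
theorem cPCa235 : PCa (235 * 1000) 1000 := by decide +kernel
theorem cPCp235 : PCp (235 * 1000) 1000 := by decide +kernel

end Cfsg.Agent.Helper19.Fi24Q
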