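import Cfsg.Agent.Helper19.Fi24Q.AuxT

set_option autoImplicit false
set_option linter.all false
set_option maxRecDepth 1000000
set_option maxHeartbeats 0

namespace Cfsg.Agent.Helper19.Fi24Q

theorem cPInv236 : PInv (236 * 1000) 1000 := by decide +kernel
theorem cPPar236 : PPar (236 * 1000) 1000 := by decide +kernel
theorem cPCox236 : PCox (236 * 1000) 1000 := by decide +kernel
theorem cPZa236 : PZa (236 * 1000) 1000 := by decide +kernel
theorem cPZp236 : PZp (236 * 1000) 1000 := by decide +kernel
theorem cPCa236 : PCa (236 * 1000) 1000 := by decide +kernel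
theorem cPCp236 : PCp (236 * 1000) 1000 := by decide +kernel
theorem cPInv237 : PInv (237 * 1000) 1000 := by decide +kernel
theorem cPPar237 : PPar (237 * 1000) 1000 := by decide +kernel
theorem cPCox237 : PCox (237 * 1000) 1000 := by decide +kernel
theorem cPZa237 : PZa (237 * 1000) 1000 := by decide +kernel
theorem cPZp237 : PZp (237 * 1000) 1000 := by decide +kernel
theorem cPCa237 : PCa (237 * 1000) 1000 := by decide +kernel
theorem cPCp237 : PCp (237 * 1000) 1000 := by decide +kernel
theorem cPInv238 : PInv (238 * 1000) 1000 := by decide +kernel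
theorem cPPar238 : PPar (238 * 1000) 1000 := by decide +kernel
theorem cPCox238 : PCox (238 * 1000) 1000 := by decide +kernel
theorem cPZa238 : PZa (238 * 1000) 1000 := by decide +kernel
theorem cPZp238 : PZp (238 * 1000) 1000 := by decide +kernel
theorem cPCa238 : PCa (238 * 1000) 1000 := by decide +kernel
theorem cPCp238 : PCp (238 * 1000) 1000 := by decide +kernel
theorem cPInv239 : PInv (239 * 1000) 1000 := by decide +kernel
theorem cPPar239 : PPar (239 * 1000) 1000 := by decide +kernel
theorem cPCox239 : PCox (239 * 1000) 1000 := by decide +kernel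
theorem cPZa239 : PZa (239 * 1000) 1000 := by decide +kernel
theorem cPZp239 : PZp (239 * 1000) 1000 := by decide +kernel
theorem cPCa239 : PCa (239 * 1000) 1000 := by decide +kernel
theorem cPCp239 : PCp (239 * 1000) 1000 := by decide +kernel

end Cfsg.Agent.Helper19.Fi24Q
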