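import Cfsg.Agent.Helper19.Fi24Q.AuxT

set_option autoImplicit false
set_option linter.all false
set_option maxRecDepth 1000000
set_option maxHeartbeats 0

namespace Cfsg.Agent.Helper19.Fi24Q

theorem cPInv24 : PInv (24 * 1000) 1000 := by decide +kernel
theorem cPPar24 : PPar (24 * 1000) 1000 := by decide +kernel
theorem cPCox24 : PCox (24 * 1000) 1000 := by decide +kernel
theorem cPZa24 : PZa (24 * 1000) 1000 := by decide +kernel
theorem cPZp24 : PZp (24 * 1000) 1000 := by decide +kernel
theorem cPCa24 : PCa (24 * 1000) 1000 := by decide +kernel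
theorem cPCp24 : PCp (24 * 1000) 1000 := by decide +kernel
theorem cPInv25 : PInv (25 * 1000) 1000 := by decide +kernel
theorem cPPar25 : PPar (25 * 1000) 1000 := by decide +kernel
theorem cPCox25 : PCox (25 * 1000) 1000 := by decide +kernel
theorem cPZa25 : PZa (25 * 1000) 1000 := by decide +kernel
theorem cPZp25 : PZp (25 * 1000) 1000 := by decide +kernel
theorem cPCa25 : PCa (25 * 1000) 1000 := by decide +kernel
theorem cPCp25 : PCp (25 * 1000) 1000 := by decide +kernel
theorem cPInv26 : PInv (26 * 1000) 1000 := by decide +kernel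
theorem cPPar26 : PPar (26 * 1000) 1000 := by decide +kernel
theorem cPCox26 : PCox (26 * 1000) 1000 := by decide +kernel
theorem cPZa26 : PZa (26 * 1000) 1000 := by decide +kernel
theorem cPZp26 : PZp (26 * 1000) 1000 := by decide +kernel
theorem cPCa26 : PCa (26 * 1000) 1000 := by decide +kernel
theorem cPCp26 : PCp (26 * 1000) 1000 := by decide +kernel
theorem cPInv27 : PInv (27 * 1000) 1000 := by decide +kernel
theorem cPPar27 : PPar (27 * 1000) 1000 := by decide +kernel
theorem cPCox27 : PCox (27 * 1000) 1000 := by decide +kernel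
theorem cPZa27 : PZa (27 * 1000) 1000 := by decide +kernel
theorem cPZp27 : PZp (27 * 1000) 1000 := by decide +kernel
theorem cPCa27 : PCa (27 * 1000) 1000 := by decide +kernel
theorem cPCp27 : PCp (27 * 1000) 1000 := by decide +kernel

end Cfsg.Agent.Helper19.Fi24Q
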