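import Cfsg.Agent.Helper19.Fi24Q.AuxT

set_option autoImplicit false
set_option linter.all false
set_option maxRecDepth 1000000
set_option maxHeartbeats 0

namespace Cfsg.Agent.Helper19.Fi24Q

theorem cPInv240 : PInv (240 * 1000) 1000 := by decide +kernel
theorem cPPar240 : PPar (240 * 1000) 1000 := by decide +kernel
theorem cPCox240 : PCox (240 * 1000) 1000 := by decide +kernel
theorem cPZa240 : PZa (240 * 1000) 1000 := by decide +kernel
theorem cPZp240 : PZp (240 * 1000) 1000 := by decide +kernel
theorem cPCa240 : PCa (240 * 1000) 1000 := by decide +kernel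
theorem cPCp240 : PCp (240 * 1000) 1000 := by decide +kernel
theorem cPInv241 : PInv (241 * 1000) 1000 := by decide +kernel
theorem cPPar241 : PPar (241 * 1000) 1000 := by decide +kernel
theorem cPCox241 : PCox (241 * 1000) 1000 := by decide +kernel
theorem cPZa241 : PZa (241 * 1000) 1000 := by decide +kernel
theorem cPZp241 : PZp (241 * 1000) 1000 := by decide +kernel
theorem cPCa241 : PCa (241 * 1000) 1000 := by decide +kernel
theorem cPCp241 : PCp (241 * 1000) 1000 := by decide +kernel
theorem cPInv242 : PInv (242 * 1000) 1000 := by decide +kernel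
theorem cPPar242 : PPar (242 * 1000) 1000 := by decide +kernel
theorem cPCox242 : PCox (242 * 1000) 1000 := by decide +kernel
theorem cPZa242 : PZa (242 * 1000) 1000 := by decide +kernel
theorem cPZp242 : PZp (242 * 1000) 1000 := by decide +kernel
theorem cPCa242 : PCa (242 * 1000) 1000 := by decide +kernel
theorem cPCp242 : PCp (242 * 1000) 1000 := by decide +kernel
theorem cPInv243 : PInv (243 * 1000) 1000 := by decide +kernel
theorem cPPar243 : PPar (243 * 1000) 1000 := by decide +kernel
theorem cPCox243 : PCox (243 * 1000) 1000 := by decide +kernel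
theorem cPZa243 : PZa (243 * 1000) 1000 := by decide +kernel
theorem cPZp243 : PZp (243 * 1000) 1000 := by decide +kernel
theorem cPCa243 : PCa (243 * 1000) 1000 := by decide +kernel
theorem cPCp243 : PCp (243 * 1000) 1000 := by decide +kernel

end Cfsg.Agent.Helper19.Fi24Q
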