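import Cfsg.Agent.Helper19.Fi24Q.AuxT

set_option autoImplicit false
set_option linter.all false
set_option maxRecDepth 1000000
set_option maxHeartbeats 0

namespace Cfsg.Agent.Helper19.Fi24Q

theorem cPInv244 : PInv (244 * 1000) 1000 := by decide +kernel
theorem cPPar244 : PPar (244 * 1000) 1000 := by decide +kernel
theorem cPCox244 : PCox (244 * 1000) 1000 := by decide +kernel
theorem cPZa244 : PZa (244 * 1000) 1000 := by decide +kernel
theorem cPZp244 : PZp (244 * 1000) 1000 := by decide +kernel
theorem cPCa244 : PCa (244 * 1000) 1000 := by decide +kernel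
theorem cPCp244 : PCp (244 * 1000) 1000 := by decide +kernel
theorem cPInv245 : PInv (245 * 1000) 1000 := by decide +kernel
theorem cPPar245 : PPar (245 * 1000) 1000 := by decide +kernel
theorem cPCox245 : PCox (245 * 1000) 1000 := by decide +kernel
theorem cPZa245 : PZa (245 * 1000) 1000 := by decide +kernel
theorem cPZp245 : PZp (245 * 1000) 1000 := by decide +kernel
theorem cPCa245 : PCa (245 * 1000) 1000 := by decide +kernel
theorem cPCp245 : PCp (245 * 1000) 1000 := by decide +kernel
theorem cPInv246 : PInv (246 * 1000) 1000 := by decide +kernel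
theorem cPPar246 : PPar (246 * 1000) 1000 := by decide +kernel
theorem cPCox246 : PCox (246 * 1000) 1000 := by decide +kernel
theorem cPZa246 : PZa (246 * 1000) 1000 := by decide +kernel
theorem cPZp246 : PZp (246 * 1000) 1000 := by decide +kernel
theorem cPCa246 : PCa (246 * 1000) 1000 := by decide +kernel
theorem cPCp246 : PCp (246 * 1000) 1000 := by decide +kernel
theorem cPInv247 : PInv (247 * 1000) 1000 := by decide +kernel
theorem cPPar247 : PPar (247 * 1000) 1000 := by decide +kernel
theorem cPCox247 : PCox (247 * 1000) 1000 := by decide +kernel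
theorem cPZa247 : PZa (247 * 1000) 1000 := by decide +kernel
theorem cPZp247 : PZp (247 * 1000) 1000 := by decide +kernel
theorem cPCa247 : PCa (247 * 1000) 1000 := by decide +kernel
theorem cPCp247 : PCp (247 * 1000) 1000 := by decide +kernel

end Cfsg.Agent.Helper19.Fi24Q
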