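import Cfsg.Agent.Helper19.Fi24Q.AuxT

set_option autoImplicit false
set_option linter.all false
set_option maxRecDepth 1000000
set_option maxHeartbeats 0

namespace Cfsg.Agent.Helper19.Fi24Q

theorem cPInv248 : PInv (248 * 1000) 1000 := by decide +kernel
theorem cPPar248 : PPar (248 * 1000) 1000 := by decide +kernel
theorem cPCox248 : PCox (248 * 1000) 1000 := by decide +kernel
theorem cPZa248 : PZa (248 * 1000) 1000 := by decide +kernel
theorem cPZp248 : PZp (248 * 1000) 1000 := by decide +kernel
theorem cPCa248 : PCa (248 * 1000) 1000 := by decide +kernel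
theorem cPCp248 : PCp (248 * 1000) 1000 := by decide +kernel
theorem cPInv249 : PInv (249 * 1000) 1000 := by decide +kernel
theorem cPPar249 : PPar (249 * 1000) 1000 := by decide +kernel
theorem cPCox249 : PCox (249 * 1000) 1000 := by decide +kernel
theorem cPZa249 : PZa (249 * 1000) 1000 := by decide +kernel
theorem cPZp249 : PZp (249 * 1000) 1000 := by decide +kernel
theorem cPCa249 : PCa (249 * 1000) 1000 := by decide +kernel
theorem cPCp249 : PCp (249 * 1000) 1000 := by decide +kernel
theorem cPInv250 : PInv (250 * 1000) 1000 := by decide +kernel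
theorem cPPar250 : PPar (250 * 1000) 1000 := by decide +kernel
theorem cPCox250 : PCox (250 * 1000) 1000 := by decide +kernel
theorem cPZa250 : PZa (250 * 1000) 1000 := by decide +kernel
theorem cPZp250 : PZp (250 * 1000) 1000 := by decide +kernel
theorem cPCa250 : PCa (250 * 1000) 1000 := by decide +kernel
theorem cPCp250 : PCp (250 * 1000) 1000 := by decide +kernel
theorem cPInv251 : PInv (251 * 1000) 1000 := by decide +kernel
theorem cPPar251 : PPar (251 * 1000) 1000 := by decide +kernel
theorem cPCox251 : PCox (251 * 1000) 1000 := by decide +kernel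
theorem cPZa251 : PZa (251 * 1000) 1000 := by decide +kernel
theorem cPZp251 : PZp (251 * 1000) 1000 := by decide +kernel
theorem cPCa251 : PCa (251 * 1000) 1000 := by decide +kernel
theorem cPCp251 : PCp (251 * 1000) 1000 := by decide +kernel

end Cfsg.Agent.Helper19.Fi24Q
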