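import Cfsg.Agent.Helper19.Fi24Q.AuxT

set_option autoImplicit false
set_option linter.all false
set_option maxRecDepth 1000000
set_option maxHeartbeats 0

namespace Cfsg.Agent.Helper19.Fi24Q

theorem cPInv252 : PInv (252 * 1000) 1000 := by decide +kernel
theorem cPPar252 : PPar (252 * 1000) 1000 := by decide +kernel
theorem cPCox252 : PCox (252 * 1000) 1000 := by decide +kernel
theorem cPZa252 : PZa (252 * 1000) 1000 := by decide +kernel
theorem cPZp252 : PZp (252 * 1000) 1000 := by decide +kernel
theorem cPCa252 : PCa (252 * 1000) 1000 := by decide +kernel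
theorem cPCp252 : PCp (252 * 1000) 1000 := by decide +kernel
theorem cPInv253 : PInv (253 * 1000) 1000 := by decide +kernel
theorem cPPar253 : PPar (253 * 1000) 1000 := by decide +kernel
theorem cPCox253 : PCox (253 * 1000) 1000 := by decide +kernel
theorem cPZa253 : PZa (253 * 1000) 1000 := by decide +kernel
theorem cPZp253 : PZp (253 * 1000) 1000 := by decide +kernel
theorem cPCa253 : PCa (253 * 1000) 1000 := by decide +kernel
theorem cPCp253 : PCp (253 * 1000) 1000 := by decide +kernel
theorem cPInv254 : PInv (254 * 1000) 1000 := by decide +kernel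
theorem cPPar254 : PPar (254 * 1000) 1000 := by decide +kernel
theorem cPCox254 : PCox (254 * 1000) 1000 := by decide +kernel
theorem cPZa254 : PZa (254 * 1000) 1000 := by decide +kernel
theorem cPZp254 : PZp (254 * 1000) 1000 := by decide +kernel
theorem cPCa254 : PCa (254 * 1000) 1000 := by decide +kernel
theorem cPCp254 : PCp (254 * 1000) 1000 := by decide +kernel
theorem cPInv255 : PInv (255 * 1000) 1000 := by decide +kernel
theorem cPPar255 : PPar (255 * 1000) 1000 := by decide +kernel
theorem cPCox255 : PCox (255 * 1000) 1000 := by decide +kernel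
theorem cPZa255 : PZa (255 * 1000) 1000 := by decide +kernel
theorem cPZp255 : PZp (255 * 1000) 1000 := by decide +kernel
theorem cPCa255 : PCa (255 * 1000) 1000 := by decide +kernel
theorem cPCp255 : PCp (255 * 1000) 1000 := by decide +kernel

end Cfsg.Agent.Helper19.Fi24Q
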