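import Cfsg.Agent.Helper19.Fi24Q.AuxT

set_option autoImplicit false
set_option linter.all false
set_option maxRecDepth 1000000
set_option maxHeartbeats 0

namespace Cfsg.Agent.Helper19.Fi24Q

theorem cPInv256 : PInv (256 * 1000) 1000 := by decide +kernel
theorem cPPar256 : PPar (256 * 1000) 1000 := by decide +kernel
theorem cPCox256 : PCox (256 * 1000) 1000 := by decide +kernel
theorem cPZa256 : PZa (256 * 1000) 1000 := by decide +kernel
theorem cPZp256 : PZp (256 * 1000) 1000 := by decide +kernel
theorem cPCa256 : PCa (256 * 1000) 1000 := by decide +kernel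
theorem cPCp256 : PCp (256 * 1000) 1000 := by decide +kernel
theorem cPInv257 : PInv (257 * 1000) 1000 := by decide +kernel
theorem cPPar257 : PPar (257 * 1000) 1000 := by decide +kernel
theorem cPCox257 : PCox (257 * 1000) 1000 := by decide +kernel
theorem cPZa257 : PZa (257 * 1000) 1000 := by decide +kernel
theorem cPZp257 : PZp (257 * 1000) 1000 := by decide +kernel
theorem cPCa257 : PCa (257 * 1000) 1000 := by decide +kernel
theorem cPCp257 : PCp (257 * 1000) 1000 := by decide +kernel
theorem cPInv258 : PInv (258 * 1000) 1000 := by decide +kernel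
theorem cPPar258 : PPar (258 * 1000) 1000 := by decide +kernel
theorem cPCox258 : PCox (258 * 1000) 1000 := by decide +kernel
theorem cPZa258 : PZa (258 * 1000) 1000 := by decide +kernel
theorem cPZp258 : PZp (258 * 1000) 1000 := by decide +kernel
theorem cPCa258 : PCa (258 * 1000) 1000 := by decide +kernel
theorem cPCp258 : PCp (258 * 1000) 1000 := by decide +kernel
theorem cPInv259 : PInv (259 * 1000) 1000 := by decide +kernel
theorem cPPar259 : PPar (259 * 1000) 1000 := by decide +kernel
theorem cPCox259 : PCox (259 * 1000) 1000 := by decide +kernel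
theorem cPZa259 : PZa (259 * 1000) 1000 := by decide +kernel
theorem cPZp259 : PZp (259 * 1000) 1000 := by decide +kernel
theorem cPCa259 : PCa (259 * 1000) 1000 := by decide +kernel
theorem cPCp259 : PCp (259 * 1000) 1000 := by decide +kernel

end Cfsg.Agent.Helper19.Fi24Q
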