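import Cfsg.Agent.Helper19.Fi24Q.AuxT

set_option autoImplicit false
set_option linter.all false
set_option maxRecDepth 1000000
set_option maxHeartbeats 0

namespace Cfsg.Agent.Helper19.Fi24Q

theorem cPInv260 : PInv (260 * 1000) 1000 := by decide +kernel
theorem cPPar260 : PPar (260 * 1000) 1000 := by decide +kernel
theorem cPCox260 : PCox (260 * 1000) 1000 := by decide +kernel
theorem cPZa260 : PZa (260 * 1000) 1000 := by decide +kernel
theorem cPZp260 : PZp (260 * 1000) 1000 := by decide +kernel
theorem cPCa260 : PCa (260 * 1000) 1000 := by decide +kernel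
theorem cPCp260 : PCp (260 * 1000) 1000 := by decide +kernel
theorem cPInv261 : PInv (261 * 1000) 1000 := by decide +kernel
theorem cPPar261 : PPar (261 * 1000) 1000 := by decide +kernel
theorem cPCox261 : PCox (261 * 1000) 1000 := by decide +kernel
theorem cPZa261 : PZa (261 * 1000) 1000 := by decide +kernel
theorem cPZp261 : PZp (261 * 1000) 1000 := by decide +kernel
theorem cPCa261 : PCa (261 * 1000) 1000 := by decide +kernel
theorem cPCp261 : PCp (261 * 1000) 1000 := by decide +kernel
theorem cPInv262 : PInv (262 * 1000) 1000 := by decide +kernel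
theorem cPPar262 : PPar (262 * 1000) 1000 := by decide +kernel
theorem cPCox262 : PCox (262 * 1000) 1000 := by decide +kernel
theorem cPZa262 : PZa (262 * 1000) 1000 := by decide +kernel
theorem cPZp262 : PZp (262 * 1000) 1000 := by decide +kernel
theorem cPCa262 : PCa (262 * 1000) 1000 := by decide +kernel
theorem cPCp262 : PCp (262 * 1000) 1000 := by decide +kernel
theorem cPInv263 : PInv (263 * 1000) 1000 := by decide +kernel
theorem cPPar263 : PPar (263 * 1000) 1000 := by decide +kernel
theorem cPCox263 : PCox (263 * 1000) 1000 := by decide +kernel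
theorem cPZa263 : PZa (263 * 1000) 1000 := by decide +kernel
theorem cPZp263 : PZp (263 * 1000) 1000 := by decide +kernel
theorem cPCa263 : PCa (263 * 1000) 1000 := by decide +kernel
theorem cPCp263 : PCp (263 * 1000) 1000 := by decide +kernel

end Cfsg.Agent.Helper19.Fi24Q
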