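import Cfsg.Agent.Helper19.Fi24Q.AuxT

set_option autoImplicit false
set_option linter.all false
set_option maxRecDepth 1000000
set_option maxHeartbeats 0

namespace Cfsg.Agent.Helper19.Fi24Q

theorem cPInv264 : PInv (264 * 1000) 1000 := by decide +kernel
theorem cPPar264 : PPar (264 * 1000) 1000 := by decide +kernel
theorem cPCox264 : PCox (264 * 1000) 1000 := by decide +kernel
theorem cPZa264 : PZa (264 * 1000) 1000 := by decide +kernel
theorem cPZp264 : PZp (264 * 1000) 1000 := by decide +kernel
theorem cPCa264 : PCa (264 * 1000) 1000 := by decide +kernel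
theorem cPCp264 : PCp (264 * 1000) 1000 := by decide +kernel
theorem cPInv265 : PInv (265 * 1000) 1000 := by decide +kernel
theorem cPPar265 : PPar (265 * 1000) 1000 := by decide +kernel
theorem cPCox265 : PCox (265 * 1000) 1000 := by decide +kernel
theorem cPZa265 : PZa (265 * 1000) 1000 := by decide +kernel
theorem cPZp265 : PZp (265 * 1000) 1000 := by decide +kernel
theorem cPCa265 : PCa (265 * 1000) 1000 := by decide +kernel
theorem cPCp265 : PCp (265 * 1000) 1000 := by decide +kernel
theorem cPInv266 : PInv (266 * 1000) 1000 := by decide +kernel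
theorem cPPar266 : PPar (266 * 1000) 1000 := by decide +kernel
theorem cPCox266 : PCox (266 * 1000) 1000 := by decide +kernel
theorem cPZa266 : PZa (266 * 1000) 1000 := by decide +kernel
theorem cPZp266 : PZp (266 * 1000) 1000 := by decide +kernel
theorem cPCa266 : PCa (266 * 1000) 1000 := by decide +kernel
theorem cPCp266 : PCp (266 * 1000) 1000 := by decide +kernel
theorem cPInv267 : PInv (267 * 1000) 1000 := by decide +kernel
theorem cPPar267 : PPar (267 * 1000) 1000 := by decide +kernel
theorem cPCox267 : PCox (267 * 1000) 1000 := by decide +kernel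
theorem cPZa267 : PZa (267 * 1000) 1000 := by decide +kernel
theorem cPZp267 : PZp (267 * 1000) 1000 := by decide +kernel
theorem cPCa267 : PCa (267 * 1000) 1000 := by decide +kernel
theorem cPCp267 : PCp (267 * 1000) 1000 := by decide +kernel

end Cfsg.Agent.Helper19.Fi24Q
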