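import Cfsg.Agent.Helper19.Fi24Q.AuxT

set_option autoImplicit false
set_option linter.all false
set_option maxRecDepth 1000000
set_option maxHeartbeats 0

namespace Cfsg.Agent.Helper19.Fi24Q

theorem cPInv268 : PInv (268 * 1000) 1000 := by decide +kernel
theorem cPPar268 : PPar (268 * 1000) 1000 := by decide +kernel
theorem cPCox268 : PCox (268 * 1000) 1000 := by decide +kernel
theorem cPZa268 : PZa (268 * 1000) 1000 := by decide +kernel
theorem cPZp268 : PZp (268 * 1000) 1000 := by decide +kernel
theorem cPCa268 : PCa (268 * 1000) 1000 := by decide +kernel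
theorem cPCp268 : PCp (268 * 1000) 1000 := by decide +kernel
theorem cPInv269 : PInv (269 * 1000) 1000 := by decide +kernel
theorem cPPar269 : PPar (269 * 1000) 1000 := by decide +kernel
theorem cPCox269 : PCox (269 * 1000) 1000 := by decide +kernel
theorem cPZa269 : PZa (269 * 1000) 1000 := by decide +kernel
theorem cPZp269 : PZp (269 * 1000) 1000 := by decide +kernel
theorem cPCa269 : PCa (269 * 1000) 1000 := by decide +kernel
theorem cPCp269 : PCp (269 * 1000) 1000 := by decide +kernel
theorem cPInv270 : PInv (270 * 1000) 1000 := by decide +kernel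
theorem cPPar270 : PPar (270 * 1000) 1000 := by decide +kernel
theorem cPCox270 : PCox (270 * 1000) 1000 := by decide +kernel
theorem cPZa270 : PZa (270 * 1000) 1000 := by decide +kernel
theorem cPZp270 : PZp (270 * 1000) 1000 := by decide +kernel
theorem cPCa270 : PCa (270 * 1000) 1000 := by decide +kernel
theorem cPCp270 : PCp (270 * 1000) 1000 := by decide +kernel
theorem cPInv271 : PInv (271 * 1000) 1000 := by decide +kernel
theorem cPPar271 : PPar (271 * 1000) 1000 := by decide +kernel
theorem cPCox271 : PCox (271 * 1000) 1000 := by decide +kernel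
theorem cPZa271 : PZa (271 * 1000) 1000 := by decide +kernel
theorem cPZp271 : PZp (271 * 1000) 1000 := by decide +kernel
theorem cPCa271 : PCa (271 * 1000) 1000 := by decide +kernel
theorem cPCp271 : PCp (271 * 1000) 1000 := by decide +kernel

end Cfsg.Agent.Helper19.Fi24Q
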