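import Cfsg.Agent.Helper19.Fi24Q.AuxT

set_option autoImplicit false
set_option linter.all false
set_option maxRecDepth 1000000
set_option maxHeartbeats 0

namespace Cfsg.Agent.Helper19.Fi24Q

theorem cPInv276 : PInv (276 * 1000) 1000 := by decide +kernel
theorem cPPar276 : PPar (276 * 1000) 1000 := by decide +kernel
theorem cPCox276 : PCox (276 * 1000) 1000 := by decide +kernel
theorem cPZa276 : PZa (276 * 1000) 1000 := by decide +kernel
theorem cPZp276 : PZp (276 * 1000) 1000 := by decide +kernel
theorem cPCa276 : PCa (276 * 1000) 1000 := by decide +kernel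
theorem cPCp276 : PCp (276 * 1000) 1000 := by decide +kernel
theorem cPInv277 : PInv (277 * 1000) 1000 := by decide +kernel
theorem cPPar277 : PPar (277 * 1000) 1000 := by decide +kernel
theorem cPCox277 : PCox (277 * 1000) 1000 := by decide +kernel
theorem cPZa277 : PZa (277 * 1000) 1000 := by decide +kernel
theorem cPZp277 : PZp (277 * 1000) 1000 := by decide +kernel
theorem cPCa277 : PCa (277 * 1000) 1000 := by decide +kernel
theorem cPCp277 : PCp (277 * 1000) 1000 := by decide +kernel
theorem cPInv278 : PInv (278 * 1000) 1000 := by decide +kernel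
theorem cPPar278 : PPar (278 * 1000) 1000 := by decide +kernel
theorem cPCox278 : PCox (278 * 1000) 1000 := by decide +kernel
theorem cPZa278 : PZa (278 * 1000) 1000 := by decide +kernel
theorem cPZp278 : PZp (278 * 1000) 1000 := by decide +kernel
theorem cPCa278 : PCa (278 * 1000) 1000 := by decide +kernel
theorem cPCp278 : PCp (278 * 1000) 1000 := by decide +kernel
theorem cPInv279 : PInv (279 * 1000) 1000 := by decide +kernel
theorem cPPar279 : PPar (279 * 1000) 1000 := by decide +kernel
theorem cPCox279 : PCox (279 * 1000) 1000 := by decide +kernel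
theorem cPZa279 : PZa (279 * 1000) 1000 := by decide +kernel
theorem cPZp279 : PZp (279 * 1000) 1000 := by decide +kernel
theorem cPCa279 : PCa (279 * 1000) 1000 := by decide +kernel
theorem cPCp279 : PCp (279 * 1000) 1000 := by decide +kernel

end Cfsg.Agent.Helper19.Fi24Q
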