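import Cfsg.Agent.Helper19.Fi24Q.AuxT

set_option autoImplicit false
set_option linter.all false
set_option maxRecDepth 1000000
set_option maxHeartbeats 0

namespace Cfsg.Agent.Helper19.Fi24Q

theorem cPInv28 : PInv (28 * 1000) 1000 := by decide +kernel
theorem cPPar28 : PPar (28 * 1000) 1000 := by decide +kernel
theorem cPCox28 : PCox (28 * 1000) 1000 := by decide +kernel
theorem cPZa28 : PZa (28 * 1000) 1000 := by decide +kernel
theorem cPZp28 : PZp (28 * 1000) 1000 := by decide +kernel
theorem cPCa28 : PCa (28 * 1000) 1000 := by decide +kernel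
theorem cPCp28 : PCp (28 * 1000) 1000 := by decide +kernel
theorem cPInv29 : PInv (29 * 1000) 1000 := by decide +kernel
theorem cPPar29 : PPar (29 * 1000) 1000 := by decide +kernel
theorem cPCox29 : PCox (29 * 1000) 1000 := by decide +kernel
theorem cPZa29 : PZa (29 * 1000) 1000 := by decide +kernel
theorem cPZp29 : PZp (29 * 1000) 1000 := by decide +kernel
theorem cPCa29 : PCa (29 * 1000) 1000 := by decide +kernel
theorem cPCp29 : PCp (29 * 1000) 1000 := by decide +kernel
theorem cPInv30 : PInv (30 * 1000) 1000 := by decide +kernel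
theorem cPPar30 : PPar (30 * 1000) 1000 := by decide +kernel
theorem cPCox30 : PCox (30 * 1000) 1000 := by decide +kernel
theorem cPZa30 : PZa (30 * 1000) 1000 := by decide +kernel
theorem cPZp30 : PZp (30 * 1000) 1000 := by decide +kernel
theorem cPCa30 : PCa (30 * 1000) 1000 := by decide +kernel
theorem cPCp30 : PCp (30 * 1000) 1000 := by decide +kernel
theorem cPInv31 : PInv (31 * 1000) 1000 := by decide +kernel
theorem cPPar31 : PPar (31 * 1000) 1000 := by decide +kernel
theorem cPCox31 : PCox (31 * 1000) 1000 := by decide +kernel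
theorem cPZa31 : PZa (31 * 1000) 1000 := by decide +kernel
theorem cPZp31 : PZp (31 * 1000) 1000 := by decide +kernel
theorem cPCa31 : PCa (31 * 1000) 1000 := by decide +kernel
theorem cPCp31 : PCp (31 * 1000) 1000 := by decide +kernel

end Cfsg.Agent.Helper19.Fi24Q
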