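import Cfsg.Agent.Helper19.Fi24Q.AuxT

set_option autoImplicit false
set_option linter.all false
set_option maxRecDepth 1000000
set_option maxHeartbeats 0

namespace Cfsg.Agent.Helper19.Fi24Q

theorem cPInv280 : PInv (280 * 1000) 1000 := by decide +kernel
theorem cPPar280 : PPar (280 * 1000) 1000 := by decide +kernel
theorem cPCox280 : PCox (280 * 1000) 1000 := by decide +kernel
theorem cPZa280 : PZa (280 * 1000) 1000 := by decide +kernel
theorem cPZp280 : PZp (280 * 1000) 1000 := by decide +kernel
theorem cPCa280 : PCa (280 * 1000) 1000 := by decide +kernel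
theorem cPCp280 : PCp (280 * 1000) 1000 := by decide +kernel
theorem cPInv281 : PInv (281 * 1000) 1000 := by decide +kernel
theorem cPPar281 : PPar (281 * 1000) 1000 := by decide +kernel
theorem cPCox281 : PCox (281 * 1000) 1000 := by decide +kernel
theorem cPZa281 : PZa (281 * 1000) 1000 := by decide +kernel
theorem cPZp281 : PZp (281 * 1000) 1000 := by decide +kernel
theorem cPCa281 : PCa (281 * 1000) 1000 := by decide +kernel
theorem cPCp281 : PCp (281 * 1000) 1000 := by decide +kernel
theorem cPInv282 : PInv (282 * 1000) 1000 := by decide +kernel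
theorem cPPar282 : PPar (282 * 1000) 1000 := by decide +kernel
theorem cPCox282 : PCox (282 * 1000) 1000 := by decide +kernel
theorem cPZa282 : PZa (282 * 1000) 1000 := by decide +kernel
theorem cPZp282 : PZp (282 * 1000) 1000 := by decide +kernel
theorem cPCa282 : PCa (282 * 1000) 1000 := by decide +kernel
theorem cPCp282 : PCp (282 * 1000) 1000 := by decide +kernel
theorem cPInv283 : PInv (283 * 1000) 1000 := by decide +kernel
theorem cPPar283 : PPar (283 * 1000) 1000 := by decide +kernel
theorem cPCox283 : PCox (283 * 1000) 1000 := by decide +kernel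
theorem cPZa283 : PZa (283 * 1000) 1000 := by decide +kernel
theorem cPZp283 : PZp (283 * 1000) 1000 := by decide +kernel
theorem cPCa283 : PCa (283 * 1000) 1000 := by decide +kernel
theorem cPCp283 : PCp (283 * 1000) 1000 := by decide +kernel

end Cfsg.Agent.Helper19.Fi24Q
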