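import Cfsg.Agent.Helper19.Fi24Q.AuxT

set_option autoImplicit false
set_option linter.all false
set_option maxRecDepth 1000000
set_option maxHeartbeats 0

namespace Cfsg.Agent.Helper19.Fi24Q

theorem cPInv284 : PInv (284 * 1000) 1000 := by decide +kernel
theorem cPPar284 : PPar (284 * 1000) 1000 := by decide +kernel
theorem cPCox284 : PCox (284 * 1000) 1000 := by decide +kernel
theorem cPZa284 : PZa (284 * 1000) 1000 := by decide +kernel
theorem cPZp284 : PZp (284 * 1000) 1000 := by decide +kernel
theorem cPCa284 : PCa (284 * 1000) 1000 := by decide +kernel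
theorem cPCp284 : PCp (284 * 1000) 1000 := by decide +kernel
theorem cPInv285 : PInv (285 * 1000) 1000 := by decide +kernel
theorem cPPar285 : PPar (285 * 1000) 1000 := by decide +kernel
theorem cPCox285 : PCox (285 * 1000) 1000 := by decide +kernel
theorem cPZa285 : PZa (285 * 1000) 1000 := by decide +kernel
theorem cPZp285 : PZp (285 * 1000) 1000 := by decide +kernel
theorem cPCa285 : PCa (285 * 1000) 1000 := by decide +kernel
theorem cPCp285 : PCp (285 * 1000) 1000 := by decide +kernel
theorem cPInv286 : PInv (286 * 1000) 1000 := by decide +kernel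
theorem cPPar286 : PPar (286 * 1000) 1000 := by decide +kernel
theorem cPCox286 : PCox (286 * 1000) 1000 := by decide +kernel
theorem cPZa286 : PZa (286 * 1000) 1000 := by decide +kernel
theorem cPZp286 : PZp (286 * 1000) 1000 := by decide +kernel
theorem cPCa286 : PCa (286 * 1000) 1000 := by decide +kernel
theorem cPCp286 : PCp (286 * 1000) 1000 := by decide +kernel
theorem cPInv287 : PInv (287 * 1000) 1000 := by decide +kernel
theorem cPPar287 : PPar (287 * 1000) 1000 := by decide +kernel
theorem cPCox287 : PCox (287 * 1000) 1000 := by decide +kernel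
theorem cPZa287 : PZa (287 * 1000) 1000 := by decide +kernel
theorem cPZp287 : PZp (287 * 1000) 1000 := by decide +kernel
theorem cPCa287 : PCa (287 * 1000) 1000 := by decide +kernel
theorem cPCp287 : PCp (287 * 1000) 1000 := by decide +kernel

end Cfsg.Agent.Helper19.Fi24Q
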