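import Cfsg.Agent.Helper19.Fi24Q.AuxT

set_option autoImplicit false
set_option linter.all false
set_option maxRecDepth 1000000
set_option maxHeartbeats 0

namespace Cfsg.Agent.Helper19.Fi24Q

theorem cPInv288 : PInv (288 * 1000) 1000 := by decide +kernel
theorem cPPar288 : PPar (288 * 1000) 1000 := by decide +kernel
theorem cPCox288 : PCox (288 * 1000) 1000 := by decide +kernel
theorem cPZa288 : PZa (288 * 1000) 1000 := by decide +kernel
theorem cPZp288 : PZp (288 * 1000) 1000 := by decide +kernel
theorem cPCa288 : PCa (288 * 1000) 1000 := by decide +kernel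
theorem cPCp288 : PCp (288 * 1000) 1000 := by decide +kernel
theorem cPInv289 : PInv (289 * 1000) 1000 := by decide +kernel
theorem cPPar289 : PPar (289 * 1000) 1000 := by decide +kernel
theorem cPCox289 : PCox (289 * 1000) 1000 := by decide +kernel
theorem cPZa289 : PZa (289 * 1000) 1000 := by decide +kernel
theorem cPZp289 : PZp (289 * 1000) 1000 := by decide +kernel
theorem cPCa289 : PCa (289 * 1000) 1000 := by decide +kernel
theorem cPCp289 : PCp (289 * 1000) 1000 := by decide +kernel
theorem cPInv290 : PInv (290 * 1000) 1000 := by decide +kernel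
theorem cPPar290 : PPar (290 * 1000) 1000 := by decide +kernel
theorem cPCox290 : PCox (290 * 1000) 1000 := by decide +kernel
theorem cPZa290 : PZa (290 * 1000) 1000 := by decide +kernel
theorem cPZp290 : PZp (290 * 1000) 1000 := by decide +kernel
theorem cPCa290 : PCa (290 * 1000) 1000 := by decide +kernel
theorem cPCp290 : PCp (290 * 1000) 1000 := by decide +kernel
theorem cPInv291 : PInv (291 * 1000) 1000 := by decide +kernel
theorem cPPar291 : PPar (291 * 1000) 1000 := by decide +kernel
theorem cPCox291 : PCox (291 * 1000) 1000 := by decide +kernel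
theorem cPZa291 : PZa (291 * 1000) 1000 := by decide +kernel
theorem cPZp291 : PZp (291 * 1000) 1000 := by decide +kernel
theorem cPCa291 : PCa (291 * 1000) 1000 := by decide +kernel
theorem cPCp291 : PCp (291 * 1000) 1000 := by decide +kernel

end Cfsg.Agent.Helper19.Fi24Q
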