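import Cfsg.Agent.Helper19.Fi24Q.AuxT

set_option autoImplicit false
set_option linter.all false
set_option maxRecDepth 1000000
set_option maxHeartbeats 0

namespace Cfsg.Agent.Helper19.Fi24Q

theorem cPInv292 : PInv (292 * 1000) 1000 := by decide +kernel
theorem cPPar292 : PPar (292 * 1000) 1000 := by decide +kernel
theorem cPCox292 : PCox (292 * 1000) 1000 := by decide +kernel
theorem cPZa292 : PZa (292 * 1000) 1000 := by decide +kernel
theorem cPZp292 : PZp (292 * 1000) 1000 := by decide +kernel
theorem cPCa292 : PCa (292 * 1000) 1000 := by decide +kernel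
theorem cPCp292 : PCp (292 * 1000) 1000 := by decide +kernel
theorem cPInv293 : PInv (293 * 1000) 1000 := by decide +kernel
theorem cPPar293 : PPar (293 * 1000) 1000 := by decide +kernel
theorem cPCox293 : PCox (293 * 1000) 1000 := by decide +kernel
theorem cPZa293 : PZa (293 * 1000) 1000 := by decide +kernel
theorem cPZp293 : PZp (293 * 1000) 1000 := by decide +kernel
theorem cPCa293 : PCa (293 * 1000) 1000 := by decide +kernel
theorem cPCp293 : PCp (293 * 1000) 1000 := by decide +kernel
theorem cPInv294 : PInv (294 * 1000) 1000 := by decide +kernel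
theorem cPPar294 : PPar (294 * 1000) 1000 := by decide +kernel
theorem cPCox294 : PCox (294 * 1000) 1000 := by decide +kernel
theorem cPZa294 : PZa (294 * 1000) 1000 := by decide +kernel
theorem cPZp294 : PZp (294 * 1000) 1000 := by decide +kernel
theorem cPCa294 : PCa (294 * 1000) 1000 := by decide +kernel
theorem cPCp294 : PCp (294 * 1000) 1000 := by decide +kernel
theorem cPInv295 : PInv (295 * 1000) 1000 := by decide +kernel
theorem cPPar295 : PPar (295 * 1000) 1000 := by decide +kernel
theorem cPCox295 : PCox (295 * 1000) 1000 := by decide +kernel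
theorem cPZa295 : PZa (295 * 1000) 1000 := by decide +kernel
theorem cPZp295 : PZp (295 * 1000) 1000 := by decide +kernel
theorem cPCa295 : PCa (295 * 1000) 1000 := by decide +kernel
theorem cPCp295 : PCp (295 * 1000) 1000 := by decide +kernel

end Cfsg.Agent.Helper19.Fi24Q
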