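import Cfsg.Agent.Helper19.Fi24Q.AuxT

set_option autoImplicit false
set_option linter.all false
set_option maxRecDepth 1000000
set_option maxHeartbeats 0

namespace Cfsg.Agent.Helper19.Fi24Q

theorem cPInv296 : PInv (296 * 1000) 1000 := by decide +kernel
theorem cPPar296 : PPar (296 * 1000) 1000 := by decide +kernel
theorem cPCox296 : PCox (296 * 1000) 1000 := by decide +kernel
theorem cPZa296 : PZa (296 * 1000) 1000 := by decide +kernel
theorem cPZp296 : PZp (296 * 1000) 1000 := by decide +kernel
theorem cPCa296 : PCa (296 * 1000) 1000 := by decide +kernel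
theorem cPCp296 : PCp (296 * 1000) 1000 := by decide +kernel
theorem cPInv297 : PInv (297 * 1000) 1000 := by decide +kernel
theorem cPPar297 : PPar (297 * 1000) 1000 := by decide +kernel
theorem cPCox297 : PCox (297 * 1000) 1000 := by decide +kernel
theorem cPZa297 : PZa (297 * 1000) 1000 := by decide +kernel
theorem cPZp297 : PZp (297 * 1000) 1000 := by decide +kernel
theorem cPCa297 : PCa (297 * 1000) 1000 := by decide +kernel
theorem cPCp297 : PCp (297 * 1000) 1000 := by decide +kernel
theorem cPInv298 : PInv (298 * 1000) 1000 := by decide +kernel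
theorem cPPar298 : PPar (298 * 1000) 1000 := by decide +kernel
theorem cPCox298 : PCox (298 * 1000) 1000 := by decide +kernel
theorem cPZa298 : PZa (298 * 1000) 1000 := by decide +kernel
theorem cPZp298 : PZp (298 * 1000) 1000 := by decide +kernel
theorem cPCa298 : PCa (298 * 1000) 1000 := by decide +kernel
theorem cPCp298 : PCp (298 * 1000) 1000 := by decide +kernel
theorem cPInv299 : PInv (299 * 1000) 1000 := by decide +kernel
theorem cPPar299 : PPar (299 * 1000) 1000 := by decide +kernel
theorem cPCox299 : PCox (299 * 1000) 1000 := by decide +kernel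
theorem cPZa299 : PZa (299 * 1000) 1000 := by decide +kernel
theorem cPZp299 : PZp (299 * 1000) 1000 := by decide +kernel
theorem cPCa299 : PCa (299 * 1000) 1000 := by decide +kernel
theorem cPCp299 : PCp (299 * 1000) 1000 := by decide +kernel

end Cfsg.Agent.Helper19.Fi24Q
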