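import Cfsg.Agent.Helper19.Fi24Q.AuxT

set_option autoImplicit false
set_option linter.all false
set_option maxRecDepth 1000000
set_option maxHeartbeats 0

namespace Cfsg.Agent.Helper19.Fi24Q

theorem cPInv300 : PInv (300 * 1000) 1000 := by decide +kernel
theorem cPPar300 : PPar (300 * 1000) 1000 := by decide +kernel
theorem cPCox300 : PCox (300 * 1000) 1000 := by decide +kernel
theorem cPZa300 : PZa (300 * 1000) 1000 := by decide +kernel
theorem cPZp300 : PZp (300 * 1000) 1000 := by decide +kernel
theorem cPCa300 : PCa (300 * 1000) 1000 := by decide +kernel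
theorem cPCp300 : PCp (300 * 1000) 1000 := by decide +kernel
theorem cPInv301 : PInv (301 * 1000) 1000 := by decide +kernel
theorem cPPar301 : PPar (301 * 1000) 1000 := by decide +kernel
theorem cPCox301 : PCox (301 * 1000) 1000 := by decide +kernel
theorem cPZa301 : PZa (301 * 1000) 1000 := by decide +kernel
theorem cPZp301 : PZp (301 * 1000) 1000 := by decide +kernel
theorem cPCa301 : PCa (301 * 1000) 1000 := by decide +kernel
theorem cPCp301 : PCp (301 * 1000) 1000 := by decide +kernel
theorem cPInv302 : PInv (302 * 1000) 1000 := by decide +kernel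
theorem cPPar302 : PPar (302 * 1000) 1000 := by decide +kernel
theorem cPCox302 : PCox (302 * 1000) 1000 := by decide +kernel
theorem cPZa302 : PZa (302 * 1000) 1000 := by decide +kernel
theorem cPZp302 : PZp (302 * 1000) 1000 := by decide +kernel
theorem cPCa302 : PCa (302 * 1000) 1000 := by decide +kernel
theorem cPCp302 : PCp (302 * 1000) 1000 := by decide +kernel
theorem cPInv303 : PInv (303 * 1000) 1000 := by decide +kernel
theorem cPPar303 : PPar (303 * 1000) 1000 := by decide +kernel
theorem cPCox303 : PCox (303 * 1000) 1000 := by decide +kernel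
theorem cPZa303 : PZa (303 * 1000) 1000 := by decide +kernel
theorem cPZp303 : PZp (303 * 1000) 1000 := by decide +kernel
theorem cPCa303 : PCa (303 * 1000) 1000 := by decide +kernel
theorem cPCp303 : PCp (303 * 1000) 1000 := by decide +kernel

end Cfsg.Agent.Helper19.Fi24Q
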