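import Cfsg.Agent.Helper19.Fi24Q.AuxT

set_option autoImplicit false
set_option linter.all false
set_option maxRecDepth 1000000
set_option maxHeartbeats 0

namespace Cfsg.Agent.Helper19.Fi24Q

theorem cPInv304 : PInv (304 * 1000) 1000 := by decide +kernel
theorem cPPar304 : PPar (304 * 1000) 1000 := by decide +kernel
theorem cPCox304 : PCox (304 * 1000) 1000 := by decide +kernel
theorem cPZa304 : PZa (304 * 1000) 1000 := by decide +kernel
theorem cPZp304 : PZp (304 * 1000) 1000 := by decide +kernel
theorem cPCa304 : PCa (304 * 1000) 1000 := by decide +kernel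
theorem cPCp304 : PCp (304 * 1000) 1000 := by decide +kernel
theorem cPInv305 : PInv (305 * 1000) 1000 := by decide +kernel
theorem cPPar305 : PPar (305 * 1000) 1000 := by decide +kernel
theorem cPCox305 : PCox (305 * 1000) 1000 := by decide +kernel
theorem cPZa305 : PZa (305 * 1000) 1000 := by decide +kernel
theorem cPZp305 : PZp (305 * 1000) 1000 := by decide +kernel
theorem cPCa305 : PCa (305 * 1000) 1000 := by decide +kernel
theorem cPCp305 : PCp (305 * 1000) 1000 := by decide +kernel
theorem cPInv306 : PInv (306 * 1000) 1000 := by decide +kernel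
theorem cPPar306 : PPar (306 * 1000) 1000 := by decide +kernel
theorem cPCox306 : PCox (306 * 1000) 1000 := by decide +kernel
theorem cPZa306 : PZa (306 * 1000) 1000 := by decide +kernel
theorem cPZp306 : PZp (306 * 1000) 1000 := by decide +kernel
theorem cPCa306 : PCa (306 * 1000) 1000 := by decide +kernel
theorem cPCp306 : PCp (306 * 1000) 1000 := by decide +kernel

end Cfsg.Agent.Helper19.Fi24Q
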