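import Cfsg.Agent.Helper19.Fi24Q.AuxT

set_option autoImplicit false
set_option linter.all false
set_option maxRecDepth 1000000
set_option maxHeartbeats 0

namespace Cfsg.Agent.Helper19.Fi24Q

theorem cPInv32 : PInv (32 * 1000) 1000 := by decide +kernel
theorem cPPar32 : PPar (32 * 1000) 1000 := by decide +kernel
theorem cPCox32 : PCox (32 * 1000) 1000 := by decide +kernel
theorem cPZa32 : PZa (32 * 1000) 1000 := by decide +kernel
theorem cPZp32 : PZp (32 * 1000) 1000 := by decide +kernel
theorem cPCa32 : PCa (32 * 1000) 1000 := by decide +kernel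
theorem cPCp32 : PCp (32 * 1000) 1000 := by decide +kernel
theorem cPInv33 : PInv (33 * 1000) 1000 := by decide +kernel
theorem cPPar33 : PPar (33 * 1000) 1000 := by decide +kernel
theorem cPCox33 : PCox (33 * 1000) 1000 := by decide +kernel
theorem cPZa33 : PZa (33 * 1000) 1000 := by decide +kernel
theorem cPZp33 : PZp (33 * 1000) 1000 := by decide +kernel
theorem cPCa33 : PCa (33 * 1000) 1000 := by decide +kernel
theorem cPCp33 : PCp (33 * 1000) 1000 := by decide +kernel
theorem cPInv34 : PInv (34 * 1000) 1000 := by decide +kernel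
theorem cPPar34 : PPar (34 * 1000) 1000 := by decide +kernel
theorem cPCox34 : PCox (34 * 1000) 1000 := by decide +kernel
theorem cPZa34 : PZa (34 * 1000) 1000 := by decide +kernel
theorem cPZp34 : PZp (34 * 1000) 1000 := by decide +kernel
theorem cPCa34 : PCa (34 * 1000) 1000 := by decide +kernel
theorem cPCp34 : PCp (34 * 1000) 1000 := by decide +kernel
theorem cPInv35 : PInv (35 * 1000) 1000 := by decide +kernel
theorem cPPar35 : PPar (35 * 1000) 1000 := by decide +kernel
theorem cPCox35 : PCox (35 * 1000) 1000 := by decide +kernel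
theorem cPZa35 : PZa (35 * 1000) 1000 := by decide +kernel
theorem cPZp35 : PZp (35 * 1000) 1000 := by decide +kernel
theorem cPCa35 : PCa (35 * 1000) 1000 := by decide +kernel
theorem cPCp35 : PCp (35 * 1000) 1000 := by decide +kernel

end Cfsg.Agent.Helper19.Fi24Q
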