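import Cfsg.Agent.Helper19.Fi24Q.AuxT

set_option autoImplicit false
set_option linter.all false
set_option maxRecDepth 1000000
set_option maxHeartbeats 0

namespace Cfsg.Agent.Helper19.Fi24Q

theorem cPInv36 : PInv (36 * 1000) 1000 := by decide +kernel
theorem cPPar36 : PPar (36 * 1000) 1000 := by decide +kernel
theorem cPCox36 : PCox (36 * 1000) 1000 := by decide +kernel
theorem cPZa36 : PZa (36 * 1000) 1000 := by decide +kernel
theorem cPZp36 : PZp (36 * 1000) 1000 := by decide +kernel
theorem cPCa36 : PCa (36 * 1000) 1000 := by decide +kernel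
theorem cPCp36 : PCp (36 * 1000) 1000 := by decide +kernel
theorem cPInv37 : PInv (37 * 1000) 1000 := by decide +kernel
theorem cPPar37 : PPar (37 * 1000) 1000 := by decide +kernel
theorem cPCox37 : PCox (37 * 1000) 1000 := by decide +kernel
theorem cPZa37 : PZa (37 * 1000) 1000 := by decide +kernel
theorem cPZp37 : PZp (37 * 1000) 1000 := by decide +kernel
theorem cPCa37 : PCa (37 * 1000) 1000 := by decide +kernel
theorem cPCp37 : PCp (37 * 1000) 1000 := by decide +kernel
theorem cPInv38 : PInv (38 * 1000) 1000 := by decide +kernel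
theorem cPPar38 : PPar (38 * 1000) 1000 := by decide +kernel
theorem cPCox38 : PCox (38 * 1000) 1000 := by decide +kernel
theorem cPZa38 : PZa (38 * 1000) 1000 := by decide +kernel
theorem cPZp38 : PZp (38 * 1000) 1000 := by decide +kernel
theorem cPCa38 : PCa (38 * 1000) 1000 := by decide +kernel
theorem cPCp38 : PCp (38 * 1000) 1000 := by decide +kernel
theorem cPInv39 : PInv (39 * 1000) 1000 := by decide +kernel
theorem cPPar39 : PPar (39 * 1000) 1000 := by decide +kernel
theorem cPCox39 : PCox (39 * 1000) 1000 := by decide +kernel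
theorem cPZa39 : PZa (39 * 1000) 1000 := by decide +kernel
theorem cPZp39 : PZp (39 * 1000) 1000 := by decide +kernel
theorem cPCa39 : PCa (39 * 1000) 1000 := by decide +kernel
theorem cPCp39 : PCp (39 * 1000) 1000 := by decide +kernel

end Cfsg.Agent.Helper19.Fi24Q
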