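import Mathlib
import Cfsg.Agent.Helper19.TCR.Perm
import Cfsg.Agent.Helper19.Fi24Q.PChk0
import Cfsg.Agent.Helper19.Fi24Q.PChk1
import Cfsg.Agent.Helper19.Fi24Q.PChk2
import Cfsg.Agent.Helper19.Fi24Q.PChk3
import Cfsg.Agent.Helper19.Fi24Q.PChk4
import Cfsg.Agent.Helper19.Fi24Q.PChk5
import Cfsg.Agent.Helper19.Fi24Q.PChk6
import Cfsg.Agent.Helper19.Fi24Q.PChk7
import Cfsg.Agent.Helper19.Fi24Q.PChk8
import Cfsg.Agent.Helper19.Fi24Q.PChk9
import Cfsg.Agent.Helper19.Fi24Q.PChk10
import Cfsg.Agent.Helper19.Fi24Q.PChk11
import Cfsg.Agent.Helper19.Fi24Q.PChk12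
import Cfsg.Agent.Helper19.Fi24Q.PChk13
import Cfsg.Agent.Helper19.Fi24Q.PChk14
import Cfsg.Agent.Helper19.Fi24Q.PChk15
import Cfsg.Agent.Helper19.Fi24Q.PChk16
import Cfsg.Agent.Helper19.Fi24Q.PChk17
import Cfsg.Agent.Helper19.Fi24Q.PChk18
import Cfsg.Agent.Helper19.Fi24Q.PChk19
import Cfsg.Agent.Helper19.Fi24Q.PChk20
import Cfsg.Agent.Helper19.Fi24Q.PChk21
import Cfsg.Agent.Helper19.Fi24Q.PChk22
import Cfsg.Agent.Helper19.Fi24Q.PChk23
import Cfsg.Agent.Helper19.Fi24Q.PChk24
import Cfsg.Agent.Helper19.Fi24Q.PChk25
import Cfsg.Agent.Helper19.Fi24Q.PChk26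
import Cfsg.Agent.Helper19.Fi24Q.PChk27
import Cfsg.Agent.Helper19.Fi24Q.PChk28
import Cfsg.Agent.Helper19.Fi24Q.PChk29
import Cfsg.Agent.Helper19.Fi24Q.PChk30
import Cfsg.Agent.Helper19.Fi24Q.PChk31
import Cfsg.Agent.Helper19.Fi24Q.PChk32
import Cfsg.Agent.Helper19.Fi24Q.PChk33
import Cfsg.Agent.Helper19.Fi24Q.PChk34
import Cfsg.Agent.Helper19.Fi24Q.PChk35
import Cfsg.Agent.Helper19.Fi24Q.PChk36
import Cfsg.Agent.Helper19.Fi24Q.PChk37
import Cfsg.Agent.Helper19.Fi24Q.PChk38
import Cfsg.Agent.Helper19.Fi24Q.PChk39
import Cfsg.Agent.Helper19.Fi24Q.PChk40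
import Cfsg.Agent.Helper19.Fi24Q.PChk41
import Cfsg.Agent.Helper19.Fi24Q.PChk42
import Cfsg.Agent.Helper19.Fi24Q.PChk43
import Cfsg.Agent.Helper19.Fi24Q.PChk44
import Cfsg.Agent.Helper19.Fi24Q.PChk45
import Cfsg.Agent.Helper19.Fi24Q.PChk46
import Cfsg.Agent.Helper19.Fi24Q.PChk47
import Cfsg.Agent.Helper19.Fi24Q.PChk48
import Cfsg.Agent.Helper19.Fi24Q.PChk49
import Cfsg.Agent.Helper19.Fi24Q.PChk50
import Cfsg.Agent.Helper19.Fi24Q.PChk51
import Cfsg.Agent.Helper19.Fi24Q.PChk52
import Cfsg.Agent.Helper19.Fi24Q.PChk53
import Cfsg.Agent.Helper19.Fi24Q.PChk54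
import Cfsg.Agent.Helper19.Fi24Q.PChk55
import Cfsg.Agent.Helper19.Fi24Q.PChk56
import Cfsg.Agent.Helper19.Fi24Q.PChk57
import Cfsg.Agent.Helper19.Fi24Q.PChk58
import Cfsg.Agent.Helper19.Fi24Q.PChk59
import Cfsg.Agent.Helper19.Fi24Q.PChk60
import Cfsg.Agent.Helper19.Fi24Q.PChk61
import Cfsg.Agent.Helper19.Fi24Q.PChk62
import Cfsg.Agent.Helper19.Fi24Q.PChk63
import Cfsg.Agent.Helper19.Fi24Q.PChk64
import Cfsg.Agent.Helper19.Fi24Q.PChk65
import Cfsg.Agent.Helper19.Fi24Q.PChk66
import Cfsg.Agent.Helper19.Fi24Q.PChk67
import Cfsg.Agent.Helper19.Fi24Q.PChk68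
import Cfsg.Agent.Helper19.Fi24Q.PChk69
import Cfsg.Agent.Helper19.Fi24Q.PChk70
import Cfsg.Agent.Helper19.Fi24Q.PChk71
import Cfsg.Agent.Helper19.Fi24Q.PChk72
import Cfsg.Agent.Helper19.Fi24Q.PChk73
import Cfsg.Agent.Helper19.Fi24Q.PChk74
import Cfsg.Agent.Helper19.Fi24Q.PChk75
import Cfsg.Agent.Helper19.Fi24Q.PChk76

set_option autoImplicit false
set_option linter.all false
set_option maxRecDepth 1000000
set_option maxHeartbeats 0

namespace Cfsg.Agent.Helper19.Fi24Q

open Cfsg.Agent.Helper19.TCS

theorem cPInv_all : ∀ p, p < 307 → PInv (p * 1000) 1000 := by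
  intro p hp
  interval_cases p
  · exact cPInv0
  · exact cPInv1
  · exact cPInv2
  · exact cPInv3
  · exact cPInv4
  · exact cPInv5
  · exact cPInv6
  · exact cPInv7
  · exact cPInv8
  · exact cPInv9
  · exact cPInv10
  · exact cPInv11
  · exact cPInv12
  · exact cPInv13
  · exact cPInv14
  · exact cPInv15
  · exact cPInv16
  · exact cPInv17
  · exact cPInv18
  · exact cPInv19
  · exact cPInv20
  · exact cPInv21
  · exact cPInv22
  · exact cPInv23
  · exact cPInv24
  · exact cPInv25
  · exact cPInv26
  · exact cPInv27
  · exact cPInv28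
  · exact cPInv29
  · exact cPInv30
  · exact cPInv31
  · exact cPInv32
  · exact cPInv33
  · exact cPInv34
  · exact cPInv35
  · exact cPInv36
  · exact cPInv37
  · exact cPInv38
  · exact cPInv39
  · exact cPInv40
  · exact cPInv41
  · exact cPInv42
  · exact cPInv43
  · exact cPInv44
  · exact cPInv45
  · exact cPInv46
  · exact cPInv47
  · exact cPInv48
  · exact cPInv49
  · exact cPInv50
  · exact cPInv51
  · exact cPInv52
  · exact cPInv53
  · exact cPInv54
  · exact cPInv55
  · exact cPInv56
  · exact cPInv57
  · exact cPInv58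
  · exact cPInv59
  · exact cPInv60
  · exact cPInv61
  · exact cPInv62
  · exact cPInv63
  · exact cPInv64
  · exact cPInv65
  · exact cPInv66
  · exact cPInv67
  · exact cPInv68
  · exact cPInv69
  · exact cPInv70
  · exact cPInv71
  · exact cPInv72
  · exact cPInv73
  · exact cPInv74
  · exact cPInv75
  · exact cPInv76
  · exact cPInv77
  · exact cPInv78
  · exact cPInv79
  · exact cPInv80
  · exact cPInv81
  · exact cPInv82
  · exact cPInv83
  · exact cPInv84
  · exact cPInv85
  · exact cPInv86
  · exact cPInv87
  · exact cPInv88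
  · exact cPInv89
  · exact cPInv90
  · exact cPInv91
  · exact cPInv92
  · exact cPInv93
  · exact cPInv94
  · exact cPInv95
  · exact cPInv96
  · exact cPInv97
  · exact cPInv98
  · exact cPInv99
  · exact cPInv100
  · exact cPInv101
  · exact cPInv102
  · exact cPInv103
  · exact cPInv104
  · exact cPInv105
  · exact cPInv106
  · exact cPInv107
  · exact cPInv108
  · exact cPInv109
  · exact cPInv110
  · exact cPInv111
  · exact cPInv112
  · exact cPInv113
  · exact cPInv114
  · exact cPInv115
  · exact cPInv116
  · exact cPInv117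
  · exact cPInv118
  · exact cPInv119
  · exact cPInv120
  · exact cPInv121
  · exact cPInv122
  · exact cPInv123
  · exact cPInv124
  · exact cPInv125
  · exact cPInv126
  · exact cPInv127
  · exact cPInv128
  · exact cPInv129
  · exact cPInv130
  · exact cPInv131
  · exact cPInv132
  · exact cPInv133
  · exact cPInv134
  · exact cPInv135
  · exact cPInv136
  · exact cPInv137
  · exact cPInv138
  · exact cPInv139
  · exact cPInv140
  · exact cPInv141
  · exact cPInv142
  · exact cPInv143
  · exact cPInv144
  · exact cPInv145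
  · exact cPInv146
  · exact cPInv147
  · exact cPInv148
  · exact cPInv149
  · exact cPInv150
  · exact cPInv151
  · exact cPInv152
  · exact cPInv153
  · exact cPInv154
  · exact cPInv155
  · exact cPInv156
  · exact cPInv157
  · exact cPInv158
  · exact cPInv159
  · exact cPInv160
  · exact cPInv161
  · exact cPInv162
  · exact cPInv163
  · exact cPInv164
  · exact cPInv165
  · exact cPInv166
  · exact cPInv167
  · exact cPInv168
  · exact cPInv169
  · exact cPInv170
  · exact cPInv171
  · exact cPInv172
  · exact cPInv173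
  · exact cPInv174
  · exact cPInv175
  · exact cPInv176
  · exact cPInv177
  · exact cPInv178
  · exact cPInv179
  · exact cPInv180
  · exact cPInv181
  · exact cPInv182
  · exact cPInv183
  · exact cPInv184
  · exact cPInv185
  · exact cPInv186
  · exact cPInv187
  · exact cPInv188
  · exact cPInv189
  · exact cPInv190
  · exact cPInv191
  · exact cPInv192
  · exact cPInv193
  · exact cPInv194
  · exact cPInv195
  · exact cPInv196
  · exact cPInv197
  · exact cPInv198
  · exact cPInv199
  · exact cPInv200
  · exact cPInv201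
  · exact cPInv202
  · exact cPInv203
  · exact cPInv204
  · exact cPInv205
  · exact cPInv206
  · exact cPInv207
  · exact cPInv208
  · exact cPInv209
  · exact cPInv210
  · exact cPInv211
  · exact cPInv212
  · exact cPInv213
  · exact cPInv214
  · exact cPInv215
  · exact cPInv216
  · exact cPInv217
  · exact cPInv218
  · exact cPInv219
  · exact cPInv220
  · exact cPInv221
  · exact cPInv222
  · exact cPInv223
  · exact cPInv224
  · exact cPInv225
  · exact cPInv226
  · exact cPInv227
  · exact cPInv228
  · exact cPInv229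
  · exact cPInv230
  · exact cPInv231
  · exact cPInv232
  · exact cPInv233
  · exact cPInv234
  · exact cPInv235
  · exact cPInv236
  · exact cPInv237
  · exact cPInv238
  · exact cPInv239
  · exact cPInv240
  · exact cPInv241
  · exact cPInv242
  · exact cPInv243
  · exact cPInv244
  · exact cPInv245
  · exact cPInv246
  · exact cPInv247
  · exact cPInv248
  · exact cPInv249
  · exact cPInv250
  · exact cPInv251
  · exact cPInv252
  · exact cPInv253
  · exact cPInv254
  · exact cPInv255
  · exact cPInv256
  · exact cPInv257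
  · exact cPInv258
  · exact cPInv259
  · exact cPInv260
  · exact cPInv261
  · exact cPInv262
  · exact cPInv263
  · exact cPInv264
  · exact cPInv265
  · exact cPInv266
  · exact cPInv267
  · exact cPInv268
  · exact cPInv269
  · exact cPInv270
  · exact cPInv271
  · exact cPInv272
  · exact cPInv273
  · exact cPInv274
  · exact cPInv275
  · exact cPInv276
  · exact cPInv277
  · exact cPInv278
  · exact cPInv279
  · exact cPInv280
  · exact cPInv281
  · exact cPInv282
  · exact cPInv283
  · exact cPInv284
  · exact cPInv285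
  · exact cPInv286
  · exact cPInv287
  · exact cPInv288
  · exact cPInv289
  · exact cPInv290
  · exact cPInv291
  · exact cPInv292
  · exact cPInv293
  · exact cPInv294
  · exact cPInv295
  · exact cPInv296
  · exact cPInv297
  · exact cPInv298
  · exact cPInv299
  · exact cPInv300
  · exact cPInv301
  · exact cPInv302
  · exact cPInv303
  · exact cPInv304
  · exact cPInv305
  · exact cPInv306

theorem cPPar_all : ∀ p, p < 307 → PPar (p * 1000) 1000 := by
  intro p hp
  interval_cases p
  · exact cPPar0
  · exact cPPar1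
  · exact cPPar2
  · exact cPPar3
  · exact cPPar4
  · exact cPPar5
  · exact cPPar6
  · exact cPPar7
  · exact cPPar8
  · exact cPPar9
  · exact cPPar10
  · exact cPPar11
  · exact cPPar12
  · exact cPPar13
  · exact cPPar14
  · exact cPPar15
  · exact cPPar16
  · exact cPPar17
  · exact cPPar18
  · exact cPPar19
  · exact cPPar20
  · exact cPPar21
  · exact cPPar22
  · exact cPPar23
  · exact cPPar24
  · exact cPPar25
  · exact cPPar26
  · exact cPPar27
  · exact cPPar28
  · exact cPPar29
  · exact cPPar30
  · exact cPPar31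
  · exact cPPar32
  · exact cPPar33
  · exact cPPar34
  · exact cPPar35
  · exact cPPar36
  · exact cPPar37
  · exact cPPar38
  · exact cPPar39
  · exact cPPar40
  · exact cPPar41
  · exact cPPar42
  · exact cPPar43
  · exact cPPar44
  · exact cPPar45
  · exact cPPar46
  · exact cPPar47
  · exact cPPar48
  · exact cPPar49
  · exact cPPar50
  · exact cPPar51
  · exact cPPar52
  · exact cPPar53
  · exact cPPar54
  · exact cPPar55
  · exact cPPar56
  · exact cPPar57
  · exact cPPar58
  · exact cPPar59
  · exact cPPar60
  · exact cPPar61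
  · exact cPPar62
  · exact cPPar63
  · exact cPPar64
  · exact cPPar65
  · exact cPPar66
  · exact cPPar67
  · exact cPPar68
  · exact cPPar69
  · exact cPPar70
  · exact cPPar71
  · exact cPPar72
  · exact cPPar73
  · exact cPPar74
  · exact cPPar75
  · exact cPPar76
  · exact cPPar77
  · exact cPPar78
  · exact cPPar79
  · exact cPPar80
  · exact cPPar81
  · exact cPPar82
  · exact cPPar83
  · exact cPPar84
  · exact cPPar85
  · exact cPPar86
  · exact cPPar87
  · exact cPPar88
  · exact cPPar89
  · exact cPPar90
  · exact cPPar91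
  · exact cPPar92
  · exact cPPar93
  · exact cPPar94
  · exact cPPar95
  · exact cPPar96
  · exact cPPar97
  · exact cPPar98
  · exact cPPar99
  · exact cPPar100
  · exact cPPar101
  · exact cPPar102
  · exact cPPar103
  · exact cPPar104
  · exact cPPar105
  · exact cPPar106
  · exact cPPar107
  · exact cPPar108
  · exact cPPar109
  · exact cPPar110
  · exact cPPar111
  · exact cPPar112
  · exact cPPar113
  · exact cPPar114
  · exact cPPar115
  · exact cPPar116
  · exact cPPar117
  · exact cPPar118
  · exact cPPar119
  · exact cPPar120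
  · exact cPPar121
  · exact cPPar122
  · exact cPPar123
  · exact cPPar124
  · exact cPPar125
  · exact cPPar126
  · exact cPPar127
  · exact cPPar128
  · exact cPPar129
  · exact cPPar130
  · exact cPPar131
  · exact cPPar132
  · exact cPPar133
  · exact cPPar134
  · exact cPPar135
  · exact cPPar136
  · exact cPPar137
  · exact cPPar138
  · exact cPPar139
  · exact cPPar140
  · exact cPPar141
  · exact cPPar142
  · exact cPPar143
  · exact cPPar144
  · exact cPPar145
  · exact cPPar146
  · exact cPPar147
  · exact cPPar148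
  · exact cPPar149
  · exact cPPar150
  · exact cPPar151
  · exact cPPar152
  · exact cPPar153
  · exact cPPar154
  · exact cPPar155
  · exact cPPar156
  · exact cPPar157
  · exact cPPar158
  · exact cPPar159
  · exact cPPar160
  · exact cPPar161
  · exact cPPar162
  · exact cPPar163
  · exact cPPar164
  · exact cPPar165
  · exact cPPar166
  · exact cPPar167
  · exact cPPar168
  · exact cPPar169
  · exact cPPar170
  · exact cPPar171
  · exact cPPar172
  · exact cPPar173
  · exact cPPar174
  · exact cPPar175
  · exact cPPar176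
  · exact cPPar177
  · exact cPPar178
  · exact cPPar179
  · exact cPPar180
  · exact cPPar181
  · exact cPPar182
  · exact cPPar183
  · exact cPPar184
  · exact cPPar185
  · exact cPPar186
  · exact cPPar187
  · exact cPPar188
  · exact cPPar189
  · exact cPPar190
  · exact cPPar191
  · exact cPPar192
  · exact cPPar193
  · exact cPPar194
  · exact cPPar195
  · exact cPPar196
  · exact cPPar197
  · exact cPPar198
  · exact cPPar199
  · exact cPPar200
  · exact cPPar201
  · exact cPPar202
  · exact cPPar203
  · exact cPPar204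
  · exact cPPar205
  · exact cPPar206
  · exact cPPar207
  · exact cPPar208
  · exact cPPar209
  · exact cPPar210
  · exact cPPar211
  · exact cPPar212
  · exact cPPar213
  · exact cPPar214
  · exact cPPar215
  · exact cPPar216
  · exact cPPar217
  · exact cPPar218
  · exact cPPar219
  · exact cPPar220
  · exact cPPar221
  · exact cPPar222
  · exact cPPar223
  · exact cPPar224
  · exact cPPar225
  · exact cPPar226
  · exact cPPar227
  · exact cPPar228
  · exact cPPar229
  · exact cPPar230
  · exact cPPar231
  · exact cPPar232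
  · exact cPPar233
  · exact cPPar234
  · exact cPPar235
  · exact cPPar236
  · exact cPPar237
  · exact cPPar238
  · exact cPPar239
  · exact cPPar240
  · exact cPPar241
  · exact cPPar242
  · exact cPPar243
  · exact cPPar244
  · exact cPPar245
  · exact cPPar246
  · exact cPPar247
  · exact cPPar248
  · exact cPPar249
  · exact cPPar250
  · exact cPPar251
  · exact cPPar252
  · exact cPPar253
  · exact cPPar254
  · exact cPPar255
  · exact cPPar256
  · exact cPPar257
  · exact cPPar258
  · exact cPPar259
  · exact cPPar260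
  · exact cPPar261
  · exact cPPar262
  · exact cPPar263
  · exact cPPar264
  · exact cPPar265
  · exact cPPar266
  · exact cPPar267
  · exact cPPar268
  · exact cPPar269
  · exact cPPar270
  · exact cPPar271
  · exact cPPar272
  · exact cPPar273
  · exact cPPar274
  · exact cPPar275
  · exact cPPar276
  · exact cPPar277
  · exact cPPar278
  · exact cPPar279
  · exact cPPar280
  · exact cPPar281
  · exact cPPar282
  · exact cPPar283
  · exact cPPar284
  · exact cPPar285
  · exact cPPar286
  · exact cPPar287
  · exact cPPar288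
  · exact cPPar289
  · exact cPPar290
  · exact cPPar291
  · exact cPPar292
  · exact cPPar293
  · exact cPPar294
  · exact cPPar295
  · exact cPPar296
  · exact cPPar297
  · exact cPPar298
  · exact cPPar299
  · exact cPPar300
  · exact cPPar301
  · exact cPPar302
  · exact cPPar303
  · exact cPPar304
  · exact cPPar305
  · exact cPPar306

theorem cPCox_all : ∀ p, p < 307 → PCox (p * 1000) 1000 := by
  intro p hp
  interval_cases p
  · exact cPCox0
  · exact cPCox1
  · exact cPCox2
  · exact cPCox3
  · exact cPCox4
  · exact cPCox5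
  · exact cPCox6
  · exact cPCox7
  · exact cPCox8
  · exact cPCox9
  · exact cPCox10
  · exact cPCox11
  · exact cPCox12
  · exact cPCox13
  · exact cPCox14
  · exact cPCox15
  · exact cPCox16
  · exact cPCox17
  · exact cPCox18
  · exact cPCox19
  · exact cPCox20
  · exact cPCox21
  · exact cPCox22
  · exact cPCox23
  · exact cPCox24
  · exact cPCox25
  · exact cPCox26
  · exact cPCox27
  · exact cPCox28
  · exact cPCox29
  · exact cPCox30
  · exact cPCox31
  · exact cPCox32
  · exact cPCox33
  · exact cPCox34
  · exact cPCox35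
  · exact cPCox36
  · exact cPCox37
  · exact cPCox38
  · exact cPCox39
  · exact cPCox40
  · exact cPCox41
  · exact cPCox42
  · exact cPCox43
  · exact cPCox44
  · exact cPCox45
  · exact cPCox46
  · exact cPCox47
  · exact cPCox48
  · exact cPCox49
  · exact cPCox50
  · exact cPCox51
  · exact cPCox52
  · exact cPCox53
  · exact cPCox54
  · exact cPCox55
  · exact cPCox56
  · exact cPCox57
  · exact cPCox58
  · exact cPCox59
  · exact cPCox60
  · exact cPCox61
  · exact cPCox62
  · exact cPCox63
  · exact cPCox64
  · exact cPCox65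
  · exact cPCox66
  · exact cPCox67
  · exact cPCox68
  · exact cPCox69
  · exact cPCox70
  · exact cPCox71
  · exact cPCox72
  · exact cPCox73
  · exact cPCox74
  · exact cPCox75
  · exact cPCox76
  · exact cPCox77
  · exact cPCox78
  · exact cPCox79
  · exact cPCox80
  · exact cPCox81
  · exact cPCox82
  · exact cPCox83
  · exact cPCox84
  · exact cPCox85
  · exact cPCox86
  · exact cPCox87
  · exact cPCox88
  · exact cPCox89
  · exact cPCox90
  · exact cPCox91
  · exact cPCox92
  · exact cPCox93
  · exact cPCox94
  · exact cPCox95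
  · exact cPCox96
  · exact cPCox97
  · exact cPCox98
  · exact cPCox99
  · exact cPCox100
  · exact cPCox101
  · exact cPCox102
  · exact cPCox103
  · exact cPCox104
  · exact cPCox105
  · exact cPCox106
  · exact cPCox107
  · exact cPCox108
  · exact cPCox109
  · exact cPCox110
  · exact cPCox111
  · exact cPCox112
  · exact cPCox113
  · exact cPCox114
  · exact cPCox115
  · exact cPCox116
  · exact cPCox117
  · exact cPCox118
  · exact cPCox119
  · exact cPCox120
  · exact cPCox121
  · exact cPCox122
  · exact cPCox123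
  · exact cPCox124
  · exact cPCox125
  · exact cPCox126
  · exact cPCox127
  · exact cPCox128
  · exact cPCox129
  · exact cPCox130
  · exact cPCox131
  · exact cPCox132
  · exact cPCox133
  · exact cPCox134
  · exact cPCox135
  · exact cPCox136
  · exact cPCox137
  · exact cPCox138
  · exact cPCox139
  · exact cPCox140
  · exact cPCox141
  · exact cPCox142
  · exact cPCox143
  · exact cPCox144
  · exact cPCox145
  · exact cPCox146
  · exact cPCox147
  · exact cPCox148
  · exact cPCox149
  · exact cPCox150
  · exact cPCox151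
  · exact cPCox152
  · exact cPCox153
  · exact cPCox154
  · exact cPCox155
  · exact cPCox156
  · exact cPCox157
  · exact cPCox158
  · exact cPCox159
  · exact cPCox160
  · exact cPCox161
  · exact cPCox162
  · exact cPCox163
  · exact cPCox164
  · exact cPCox165
  · exact cPCox166
  · exact cPCox167
  · exact cPCox168
  · exact cPCox169
  · exact cPCox170
  · exact cPCox171
  · exact cPCox172
  · exact cPCox173
  · exact cPCox174
  · exact cPCox175
  · exact cPCox176
  · exact cPCox177
  · exact cPCox178
  · exact cPCox179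
  · exact cPCox180
  · exact cPCox181
  · exact cPCox182
  · exact cPCox183
  · exact cPCox184
  · exact cPCox185
  · exact cPCox186
  · exact cPCox187
  · exact cPCox188
  · exact cPCox189
  · exact cPCox190
  · exact cPCox191
  · exact cPCox192
  · exact cPCox193
  · exact cPCox194
  · exact cPCox195
  · exact cPCox196
  · exact cPCox197
  · exact cPCox198
  · exact cPCox199
  · exact cPCox200
  · exact cPCox201
  · exact cPCox202
  · exact cPCox203
  · exact cPCox204
  · exact cPCox205
  · exact cPCox206
  · exact cPCox207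
  · exact cPCox208
  · exact cPCox209
  · exact cPCox210
  · exact cPCox211
  · exact cPCox212
  · exact cPCox213
  · exact cPCox214
  · exact cPCox215
  · exact cPCox216
  · exact cPCox217
  · exact cPCox218
  · exact cPCox219
  · exact cPCox220
  · exact cPCox221
  · exact cPCox222
  · exact cPCox223
  · exact cPCox224
  · exact cPCox225
  · exact cPCox226
  · exact cPCox227
  · exact cPCox228
  · exact cPCox229
  · exact cPCox230
  · exact cPCox231
  · exact cPCox232
  · exact cPCox233
  · exact cPCox234
  · exact cPCox235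
  · exact cPCox236
  · exact cPCox237
  · exact cPCox238
  · exact cPCox239
  · exact cPCox240
  · exact cPCox241
  · exact cPCox242
  · exact cPCox243
  · exact cPCox244
  · exact cPCox245
  · exact cPCox246
  · exact cPCox247
  · exact cPCox248
  · exact cPCox249
  · exact cPCox250
  · exact cPCox251
  · exact cPCox252
  · exact cPCox253
  · exact cPCox254
  · exact cPCox255
  · exact cPCox256
  · exact cPCox257
  · exact cPCox258
  · exact cPCox259
  · exact cPCox260
  · exact cPCox261
  · exact cPCox262
  · exact cPCox263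
  · exact cPCox264
  · exact cPCox265
  · exact cPCox266
  · exact cPCox267
  · exact cPCox268
  · exact cPCox269
  · exact cPCox270
  · exact cPCox271
  · exact cPCox272
  · exact cPCox273
  · exact cPCox274
  · exact cPCox275
  · exact cPCox276
  · exact cPCox277
  · exact cPCox278
  · exact cPCox279
  · exact cPCox280
  · exact cPCox281
  · exact cPCox282
  · exact cPCox283
  · exact cPCox284
  · exact cPCox285
  · exact cPCox286
  · exact cPCox287
  · exact cPCox288
  · exact cPCox289
  · exact cPCox290
  · exact cPCox291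
  · exact cPCox292
  · exact cPCox293
  · exact cPCox294
  · exact cPCox295
  · exact cPCox296
  · exact cPCox297
  · exact cPCox298
  · exact cPCox299
  · exact cPCox300
  · exact cPCox301
  · exact cPCox302
  · exact cPCox303
  · exact cPCox304
  · exact cPCox305
  · exact cPCox306

theorem cPZa_all : ∀ p, p < 307 → PZa (p * 1000) 1000 := by
  intro p hp
  interval_cases p
  · exact cPZa0
  · exact cPZa1
  · exact cPZa2
  · exact cPZa3
  · exact cPZa4
  · exact cPZa5
  · exact cPZa6
  · exact cPZa7
  · exact cPZa8
  · exact cPZa9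
  · exact cPZa10
  · exact cPZa11
  · exact cPZa12
  · exact cPZa13
  · exact cPZa14
  · exact cPZa15
  · exact cPZa16
  · exact cPZa17
  · exact cPZa18
  · exact cPZa19
  · exact cPZa20
  · exact cPZa21
  · exact cPZa22
  · exact cPZa23
  · exact cPZa24
  · exact cPZa25
  · exact cPZa26
  · exact cPZa27
  · exact cPZa28
  · exact cPZa29
  · exact cPZa30
  · exact cPZa31
  · exact cPZa32
  · exact cPZa33
  · exact cPZa34
  · exact cPZa35
  · exact cPZa36
  · exact cPZa37
  · exact cPZa38
  · exact cPZa39
  · exact cPZa40
  · exact cPZa41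
  · exact cPZa42
  · exact cPZa43
  · exact cPZa44
  · exact cPZa45
  · exact cPZa46
  · exact cPZa47
  · exact cPZa48
  · exact cPZa49
  · exact cPZa50
  · exact cPZa51
  · exact cPZa52
  · exact cPZa53
  · exact cPZa54
  · exact cPZa55
  · exact cPZa56
  · exact cPZa57
  · exact cPZa58
  · exact cPZa59
  · exact cPZa60
  · exact cPZa61
  · exact cPZa62
  · exact cPZa63
  · exact cPZa64
  · exact cPZa65
  · exact cPZa66
  · exact cPZa67
  · exact cPZa68
  · exact cPZa69
  · exact cPZa70
  · exact cPZa71
  · exact cPZa72
  · exact cPZa73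
  · exact cPZa74
  · exact cPZa75
  · exact cPZa76
  · exact cPZa77
  · exact cPZa78
  · exact cPZa79
  · exact cPZa80
  · exact cPZa81
  · exact cPZa82
  · exact cPZa83
  · exact cPZa84
  · exact cPZa85
  · exact cPZa86
  · exact cPZa87
  · exact cPZa88
  · exact cPZa89
  · exact cPZa90
  · exact cPZa91
  · exact cPZa92
  · exact cPZa93
  · exact cPZa94
  · exact cPZa95
  · exact cPZa96
  · exact cPZa97
  · exact cPZa98
  · exact cPZa99
  · exact cPZa100
  · exact cPZa101
  · exact cPZa102
  · exact cPZa103
  · exact cPZa104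
  · exact cPZa105
  · exact cPZa106
  · exact cPZa107
  · exact cPZa108
  · exact cPZa109
  · exact cPZa110
  · exact cPZa111
  · exact cPZa112
  · exact cPZa113
  · exact cPZa114
  · exact cPZa115
  · exact cPZa116
  · exact cPZa117
  · exact cPZa118
  · exact cPZa119
  · exact cPZa120
  · exact cPZa121
  · exact cPZa122
  · exact cPZa123
  · exact cPZa124
  · exact cPZa125
  · exact cPZa126
  · exact cPZa127
  · exact cPZa128
  · exact cPZa129
  · exact cPZa130
  · exact cPZa131
  · exact cPZa132
  · exact cPZa133
  · exact cPZa134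
  · exact cPZa135
  · exact cPZa136
  · exact cPZa137
  · exact cPZa138
  · exact cPZa139
  · exact cPZa140
  · exact cPZa141
  · exact cPZa142
  · exact cPZa143
  · exact cPZa144
  · exact cPZa145
  · exact cPZa146
  · exact cPZa147
  · exact cPZa148
  · exact cPZa149
  · exact cPZa150
  · exact cPZa151
  · exact cPZa152
  · exact cPZa153
  · exact cPZa154
  · exact cPZa155
  · exact cPZa156
  · exact cPZa157
  · exact cPZa158
  · exact cPZa159
  · exact cPZa160
  · exact cPZa161
  · exact cPZa162
  · exact cPZa163
  · exact cPZa164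
  · exact cPZa165
  · exact cPZa166
  · exact cPZa167
  · exact cPZa168
  · exact cPZa169
  · exact cPZa170
  · exact cPZa171
  · exact cPZa172
  · exact cPZa173
  · exact cPZa174
  · exact cPZa175
  · exact cPZa176
  · exact cPZa177
  · exact cPZa178
  · exact cPZa179
  · exact cPZa180
  · exact cPZa181
  · exact cPZa182
  · exact cPZa183
  · exact cPZa184
  · exact cPZa185
  · exact cPZa186
  · exact cPZa187
  · exact cPZa188
  · exact cPZa189
  · exact cPZa190
  · exact cPZa191
  · exact cPZa192
  · exact cPZa193
  · exact cPZa194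
  · exact cPZa195
  · exact cPZa196
  · exact cPZa197
  · exact cPZa198
  · exact cPZa199
  · exact cPZa200
  · exact cPZa201
  · exact cPZa202
  · exact cPZa203
  · exact cPZa204
  · exact cPZa205
  · exact cPZa206
  · exact cPZa207
  · exact cPZa208
  · exact cPZa209
  · exact cPZa210
  · exact cPZa211
  · exact cPZa212
  · exact cPZa213
  · exact cPZa214
  · exact cPZa215
  · exact cPZa216
  · exact cPZa217
  · exact cPZa218
  · exact cPZa219
  · exact cPZa220
  · exact cPZa221
  · exact cPZa222
  · exact cPZa223
  · exact cPZa224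
  · exact cPZa225
  · exact cPZa226
  · exact cPZa227
  · exact cPZa228
  · exact cPZa229
  · exact cPZa230
  · exact cPZa231
  · exact cPZa232
  · exact cPZa233
  · exact cPZa234
  · exact cPZa235
  · exact cPZa236
  · exact cPZa237
  · exact cPZa238
  · exact cPZa239
  · exact cPZa240
  · exact cPZa241
  · exact cPZa242
  · exact cPZa243
  · exact cPZa244
  · exact cPZa245
  · exact cPZa246
  · exact cPZa247
  · exact cPZa248
  · exact cPZa249
  · exact cPZa250
  · exact cPZa251
  · exact cPZa252
  · exact cPZa253
  · exact cPZa254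
  · exact cPZa255
  · exact cPZa256
  · exact cPZa257
  · exact cPZa258
  · exact cPZa259
  · exact cPZa260
  · exact cPZa261
  · exact cPZa262
  · exact cPZa263
  · exact cPZa264
  · exact cPZa265
  · exact cPZa266
  · exact cPZa267
  · exact cPZa268
  · exact cPZa269
  · exact cPZa270
  · exact cPZa271
  · exact cPZa272
  · exact cPZa273
  · exact cPZa274
  · exact cPZa275
  · exact cPZa276
  · exact cPZa277
  · exact cPZa278
  · exact cPZa279
  · exact cPZa280
  · exact cPZa281
  · exact cPZa282
  · exact cPZa283
  · exact cPZa284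
  · exact cPZa285
  · exact cPZa286
  · exact cPZa287
  · exact cPZa288
  · exact cPZa289
  · exact cPZa290
  · exact cPZa291
  · exact cPZa292
  · exact cPZa293
  · exact cPZa294
  · exact cPZa295
  · exact cPZa296
  · exact cPZa297
  · exact cPZa298
  · exact cPZa299
  · exact cPZa300
  · exact cPZa301
  · exact cPZa302
  · exact cPZa303
  · exact cPZa304
  · exact cPZa305
  · exact cPZa306

theorem cPZp_all : ∀ p, p < 307 → PZp (p * 1000) 1000 := by
  intro p hp
  interval_cases p
  · exact cPZp0
  · exact cPZp1
  · exact cPZp2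
  · exact cPZp3
  · exact cPZp4
  · exact cPZp5
  · exact cPZp6
  · exact cPZp7
  · exact cPZp8
  · exact cPZp9
  · exact cPZp10
  · exact cPZp11
  · exact cPZp12
  · exact cPZp13
  · exact cPZp14
  · exact cPZp15
  · exact cPZp16
  · exact cPZp17
  · exact cPZp18
  · exact cPZp19
  · exact cPZp20
  · exact cPZp21
  · exact cPZp22
  · exact cPZp23
  · exact cPZp24
  · exact cPZp25
  · exact cPZp26
  · exact cPZp27
  · exact cPZp28
  · exact cPZp29
  · exact cPZp30
  · exact cPZp31
  · exact cPZp32
  · exact cPZp33
  · exact cPZp34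
  · exact cPZp35
  · exact cPZp36
  · exact cPZp37
  · exact cPZp38
  · exact cPZp39
  · exact cPZp40
  · exact cPZp41
  · exact cPZp42
  · exact cPZp43
  · exact cPZp44
  · exact cPZp45
  · exact cPZp46
  · exact cPZp47
  · exact cPZp48
  · exact cPZp49
  · exact cPZp50
  · exact cPZp51
  · exact cPZp52
  · exact cPZp53
  · exact cPZp54
  · exact cPZp55
  · exact cPZp56
  · exact cPZp57
  · exact cPZp58
  · exact cPZp59
  · exact cPZp60
  · exact cPZp61
  · exact cPZp62
  · exact cPZp63
  · exact cPZp64
  · exact cPZp65
  · exact cPZp66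
  · exact cPZp67
  · exact cPZp68
  · exact cPZp69
  · exact cPZp70
  · exact cPZp71
  · exact cPZp72
  · exact cPZp73
  · exact cPZp74
  · exact cPZp75
  · exact cPZp76
  · exact cPZp77
  · exact cPZp78
  · exact cPZp79
  · exact cPZp80
  · exact cPZp81
  · exact cPZp82
  · exact cPZp83
  · exact cPZp84
  · exact cPZp85
  · exact cPZp86
  · exact cPZp87
  · exact cPZp88
  · exact cPZp89
  · exact cPZp90
  · exact cPZp91
  · exact cPZp92
  · exact cPZp93
  · exact cPZp94
  · exact cPZp95
  · exact cPZp96
  · exact cPZp97
  · exact cPZp98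
  · exact cPZp99
  · exact cPZp100
  · exact cPZp101
  · exact cPZp102
  · exact cPZp103
  · exact cPZp104
  · exact cPZp105
  · exact cPZp106
  · exact cPZp107
  · exact cPZp108
  · exact cPZp109
  · exact cPZp110
  · exact cPZp111
  · exact cPZp112
  · exact cPZp113
  · exact cPZp114
  · exact cPZp115
  · exact cPZp116
  · exact cPZp117
  · exact cPZp118
  · exact cPZp119
  · exact cPZp120
  · exact cPZp121
  · exact cPZp122
  · exact cPZp123
  · exact cPZp124
  · exact cPZp125
  · exact cPZp126
  · exact cPZp127
  · exact cPZp128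
  · exact cPZp129
  · exact cPZp130
  · exact cPZp131
  · exact cPZp132
  · exact cPZp133
  · exact cPZp134
  · exact cPZp135
  · exact cPZp136
  · exact cPZp137
  · exact cPZp138
  · exact cPZp139
  · exact cPZp140
  · exact cPZp141
  · exact cPZp142
  · exact cPZp143
  · exact cPZp144
  · exact cPZp145
  · exact cPZp146
  · exact cPZp147
  · exact cPZp148
  · exact cPZp149
  · exact cPZp150
  · exact cPZp151
  · exact cPZp152
  · exact cPZp153
  · exact cPZp154
  · exact cPZp155
  · exact cPZp156
  · exact cPZp157
  · exact cPZp158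
  · exact cPZp159
  · exact cPZp160
  · exact cPZp161
  · exact cPZp162
  · exact cPZp163
  · exact cPZp164
  · exact cPZp165
  · exact cPZp166
  · exact cPZp167
  · exact cPZp168
  · exact cPZp169
  · exact cPZp170
  · exact cPZp171
  · exact cPZp172
  · exact cPZp173
  · exact cPZp174
  · exact cPZp175
  · exact cPZp176
  · exact cPZp177
  · exact cPZp178
  · exact cPZp179
  · exact cPZp180
  · exact cPZp181
  · exact cPZp182
  · exact cPZp183
  · exact cPZp184
  · exact cPZp185
  · exact cPZp186
  · exact cPZp187
  · exact cPZp188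
  · exact cPZp189
  · exact cPZp190
  · exact cPZp191
  · exact cPZp192
  · exact cPZp193
  · exact cPZp194
  · exact cPZp195
  · exact cPZp196
  · exact cPZp197
  · exact cPZp198
  · exact cPZp199
  · exact cPZp200
  · exact cPZp201
  · exact cPZp202
  · exact cPZp203
  · exact cPZp204
  · exact cPZp205
  · exact cPZp206
  · exact cPZp207
  · exact cPZp208
  · exact cPZp209
  · exact cPZp210
  · exact cPZp211
  · exact cPZp212
  · exact cPZp213
  · exact cPZp214
  · exact cPZp215
  · exact cPZp216
  · exact cPZp217
  · exact cPZp218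
  · exact cPZp219
  · exact cPZp220
  · exact cPZp221
  · exact cPZp222
  · exact cPZp223
  · exact cPZp224
  · exact cPZp225
  · exact cPZp226
  · exact cPZp227
  · exact cPZp228
  · exact cPZp229
  · exact cPZp230
  · exact cPZp231
  · exact cPZp232
  · exact cPZp233
  · exact cPZp234
  · exact cPZp235
  · exact cPZp236
  · exact cPZp237
  · exact cPZp238
  · exact cPZp239
  · exact cPZp240
  · exact cPZp241
  · exact cPZp242
  · exact cPZp243
  · exact cPZp244
  · exact cPZp245
  · exact cPZp246
  · exact cPZp247
  · exact cPZp248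
  · exact cPZp249
  · exact cPZp250
  · exact cPZp251
  · exact cPZp252
  · exact cPZp253
  · exact cPZp254
  · exact cPZp255
  · exact cPZp256
  · exact cPZp257
  · exact cPZp258
  · exact cPZp259
  · exact cPZp260
  · exact cPZp261
  · exact cPZp262
  · exact cPZp263
  · exact cPZp264
  · exact cPZp265
  · exact cPZp266
  · exact cPZp267
  · exact cPZp268
  · exact cPZp269
  · exact cPZp270
  · exact cPZp271
  · exact cPZp272
  · exact cPZp273
  · exact cPZp274
  · exact cPZp275
  · exact cPZp276
  · exact cPZp277
  · exact cPZp278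
  · exact cPZp279
  · exact cPZp280
  · exact cPZp281
  · exact cPZp282
  · exact cPZp283
  · exact cPZp284
  · exact cPZp285
  · exact cPZp286
  · exact cPZp287
  · exact cPZp288
  · exact cPZp289
  · exact cPZp290
  · exact cPZp291
  · exact cPZp292
  · exact cPZp293
  · exact cPZp294
  · exact cPZp295
  · exact cPZp296
  · exact cPZp297
  · exact cPZp298
  · exact cPZp299
  · exact cPZp300
  · exact cPZp301
  · exact cPZp302
  · exact cPZp303
  · exact cPZp304
  · exact cPZp305
  · exact cPZp306

theorem cPCa_all : ∀ p, p < 307 → PCa (p * 1000) 1000 := by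
  intro p hp
  interval_cases p
  · exact cPCa0
  · exact cPCa1
  · exact cPCa2
  · exact cPCa3
  · exact cPCa4
  · exact cPCa5
  · exact cPCa6
  · exact cPCa7
  · exact cPCa8
  · exact cPCa9
  · exact cPCa10
  · exact cPCa11
  · exact cPCa12
  · exact cPCa13
  · exact cPCa14
  · exact cPCa15
  · exact cPCa16
  · exact cPCa17
  · exact cPCa18
  · exact cPCa19
  · exact cPCa20
  · exact cPCa21
  · exact cPCa22
  · exact cPCa23
  · exact cPCa24
  · exact cPCa25
  · exact cPCa26
  · exact cPCa27
  · exact cPCa28
  · exact cPCa29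
  · exact cPCa30
  · exact cPCa31
  · exact cPCa32
  · exact cPCa33
  · exact cPCa34
  · exact cPCa35
  · exact cPCa36
  · exact cPCa37
  · exact cPCa38
  · exact cPCa39
  · exact cPCa40
  · exact cPCa41
  · exact cPCa42
  · exact cPCa43
  · exact cPCa44
  · exact cPCa45
  · exact cPCa46
  · exact cPCa47
  · exact cPCa48
  · exact cPCa49
  · exact cPCa50
  · exact cPCa51
  · exact cPCa52
  · exact cPCa53
  · exact cPCa54
  · exact cPCa55
  · exact cPCa56
  · exact cPCa57
  · exact cPCa58
  · exact cPCa59
  · exact cPCa60
  · exact cPCa61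
  · exact cPCa62
  · exact cPCa63
  · exact cPCa64
  · exact cPCa65
  · exact cPCa66
  · exact cPCa67
  · exact cPCa68
  · exact cPCa69
  · exact cPCa70
  · exact cPCa71
  · exact cPCa72
  · exact cPCa73
  · exact cPCa74
  · exact cPCa75
  · exact cPCa76
  · exact cPCa77
  · exact cPCa78
  · exact cPCa79
  · exact cPCa80
  · exact cPCa81
  · exact cPCa82
  · exact cPCa83
  · exact cPCa84
  · exact cPCa85
  · exact cPCa86
  · exact cPCa87
  · exact cPCa88
  · exact cPCa89
  · exact cPCa90
  · exact cPCa91
  · exact cPCa92
  · exact cPCa93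
  · exact cPCa94
  · exact cPCa95
  · exact cPCa96
  · exact cPCa97
  · exact cPCa98
  · exact cPCa99
  · exact cPCa100
  · exact cPCa101
  · exact cPCa102
  · exact cPCa103
  · exact cPCa104
  · exact cPCa105
  · exact cPCa106
  · exact cPCa107
  · exact cPCa108
  · exact cPCa109
  · exact cPCa110
  · exact cPCa111
  · exact cPCa112
  · exact cPCa113
  · exact cPCa114
  · exact cPCa115
  · exact cPCa116
  · exact cPCa117
  · exact cPCa118
  · exact cPCa119
  · exact cPCa120
  · exact cPCa121
  · exact cPCa122
  · exact cPCa123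
  · exact cPCa124
  · exact cPCa125
  · exact cPCa126
  · exact cPCa127
  · exact cPCa128
  · exact cPCa129
  · exact cPCa130
  · exact cPCa131
  · exact cPCa132
  · exact cPCa133
  · exact cPCa134
  · exact cPCa135
  · exact cPCa136
  · exact cPCa137
  · exact cPCa138
  · exact cPCa139
  · exact cPCa140
  · exact cPCa141
  · exact cPCa142
  · exact cPCa143
  · exact cPCa144
  · exact cPCa145
  · exact cPCa146
  · exact cPCa147
  · exact cPCa148
  · exact cPCa149
  · exact cPCa150
  · exact cPCa151
  · exact cPCa152
  · exact cPCa153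
  · exact cPCa154
  · exact cPCa155
  · exact cPCa156
  · exact cPCa157
  · exact cPCa158
  · exact cPCa159
  · exact cPCa160
  · exact cPCa161
  · exact cPCa162
  · exact cPCa163
  · exact cPCa164
  · exact cPCa165
  · exact cPCa166
  · exact cPCa167
  · exact cPCa168
  · exact cPCa169
  · exact cPCa170
  · exact cPCa171
  · exact cPCa172
  · exact cPCa173
  · exact cPCa174
  · exact cPCa175
  · exact cPCa176
  · exact cPCa177
  · exact cPCa178
  · exact cPCa179
  · exact cPCa180
  · exact cPCa181
  · exact cPCa182
  · exact cPCa183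
  · exact cPCa184
  · exact cPCa185
  · exact cPCa186
  · exact cPCa187
  · exact cPCa188
  · exact cPCa189
  · exact cPCa190
  · exact cPCa191
  · exact cPCa192
  · exact cPCa193
  · exact cPCa194
  · exact cPCa195
  · exact cPCa196
  · exact cPCa197
  · exact cPCa198
  · exact cPCa199
  · exact cPCa200
  · exact cPCa201
  · exact cPCa202
  · exact cPCa203
  · exact cPCa204
  · exact cPCa205
  · exact cPCa206
  · exact cPCa207
  · exact cPCa208
  · exact cPCa209
  · exact cPCa210
  · exact cPCa211
  · exact cPCa212
  · exact cPCa213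
  · exact cPCa214
  · exact cPCa215
  · exact cPCa216
  · exact cPCa217
  · exact cPCa218
  · exact cPCa219
  · exact cPCa220
  · exact cPCa221
  · exact cPCa222
  · exact cPCa223
  · exact cPCa224
  · exact cPCa225
  · exact cPCa226
  · exact cPCa227
  · exact cPCa228
  · exact cPCa229
  · exact cPCa230
  · exact cPCa231
  · exact cPCa232
  · exact cPCa233
  · exact cPCa234
  · exact cPCa235
  · exact cPCa236
  · exact cPCa237
  · exact cPCa238
  · exact cPCa239
  · exact cPCa240
  · exact cPCa241
  · exact cPCa242
  · exact cPCa243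
  · exact cPCa244
  · exact cPCa245
  · exact cPCa246
  · exact cPCa247
  · exact cPCa248
  · exact cPCa249
  · exact cPCa250
  · exact cPCa251
  · exact cPCa252
  · exact cPCa253
  · exact cPCa254
  · exact cPCa255
  · exact cPCa256
  · exact cPCa257
  · exact cPCa258
  · exact cPCa259
  · exact cPCa260
  · exact cPCa261
  · exact cPCa262
  · exact cPCa263
  · exact cPCa264
  · exact cPCa265
  · exact cPCa266
  · exact cPCa267
  · exact cPCa268
  · exact cPCa269
  · exact cPCa270
  · exact cPCa271
  · exact cPCa272
  · exact cPCa273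
  · exact cPCa274
  · exact cPCa275
  · exact cPCa276
  · exact cPCa277
  · exact cPCa278
  · exact cPCa279
  · exact cPCa280
  · exact cPCa281
  · exact cPCa282
  · exact cPCa283
  · exact cPCa284
  · exact cPCa285
  · exact cPCa286
  · exact cPCa287
  · exact cPCa288
  · exact cPCa289
  · exact cPCa290
  · exact cPCa291
  · exact cPCa292
  · exact cPCa293
  · exact cPCa294
  · exact cPCa295
  · exact cPCa296
  · exact cPCa297
  · exact cPCa298
  · exact cPCa299
  · exact cPCa300
  · exact cPCa301
  · exact cPCa302
  · exact cPCa303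
  · exact cPCa304
  · exact cPCa305
  · exact cPCa306

theorem cPCp_all : ∀ p, p < 307 → PCp (p * 1000) 1000 := by
  intro p hp
  interval_cases p
  · exact cPCp0
  · exact cPCp1
  · exact cPCp2
  · exact cPCp3
  · exact cPCp4
  · exact cPCp5
  · exact cPCp6
  · exact cPCp7
  · exact cPCp8
  · exact cPCp9
  · exact cPCp10
  · exact cPCp11
  · exact cPCp12
  · exact cPCp13
  · exact cPCp14
  · exact cPCp15
  · exact cPCp16
  · exact cPCp17
  · exact cPCp18
  · exact cPCp19
  · exact cPCp20
  · exact cPCp21
  · exact cPCp22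
  · exact cPCp23
  · exact cPCp24
  · exact cPCp25
  · exact cPCp26
  · exact cPCp27
  · exact cPCp28
  · exact cPCp29
  · exact cPCp30
  · exact cPCp31
  · exact cPCp32
  · exact cPCp33
  · exact cPCp34
  · exact cPCp35
  · exact cPCp36
  · exact cPCp37
  · exact cPCp38
  · exact cPCp39
  · exact cPCp40
  · exact cPCp41
  · exact cPCp42
  · exact cPCp43
  · exact cPCp44
  · exact cPCp45
  · exact cPCp46
  · exact cPCp47
  · exact cPCp48
  · exact cPCp49
  · exact cPCp50
  · exact cPCp51
  · exact cPCp52
  · exact cPCp53
  · exact cPCp54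
  · exact cPCp55
  · exact cPCp56
  · exact cPCp57
  · exact cPCp58
  · exact cPCp59
  · exact cPCp60
  · exact cPCp61
  · exact cPCp62
  · exact cPCp63
  · exact cPCp64
  · exact cPCp65
  · exact cPCp66
  · exact cPCp67
  · exact cPCp68
  · exact cPCp69
  · exact cPCp70
  · exact cPCp71
  · exact cPCp72
  · exact cPCp73
  · exact cPCp74
  · exact cPCp75
  · exact cPCp76
  · exact cPCp77
  · exact cPCp78
  · exact cPCp79
  · exact cPCp80
  · exact cPCp81
  · exact cPCp82
  · exact cPCp83
  · exact cPCp84
  · exact cPCp85
  · exact cPCp86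
  · exact cPCp87
  · exact cPCp88
  · exact cPCp89
  · exact cPCp90
  · exact cPCp91
  · exact cPCp92
  · exact cPCp93
  · exact cPCp94
  · exact cPCp95
  · exact cPCp96
  · exact cPCp97
  · exact cPCp98
  · exact cPCp99
  · exact cPCp100
  · exact cPCp101
  · exact cPCp102
  · exact cPCp103
  · exact cPCp104
  · exact cPCp105
  · exact cPCp106
  · exact cPCp107
  · exact cPCp108
  · exact cPCp109
  · exact cPCp110
  · exact cPCp111
  · exact cPCp112
  · exact cPCp113
  · exact cPCp114
  · exact cPCp115
  · exact cPCp116
  · exact cPCp117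
  · exact cPCp118
  · exact cPCp119
  · exact cPCp120
  · exact cPCp121
  · exact cPCp122
  · exact cPCp123
  · exact cPCp124
  · exact cPCp125
  · exact cPCp126
  · exact cPCp127
  · exact cPCp128
  · exact cPCp129
  · exact cPCp130
  · exact cPCp131
  · exact cPCp132
  · exact cPCp133
  · exact cPCp134
  · exact cPCp135
  · exact cPCp136
  · exact cPCp137
  · exact cPCp138
  · exact cPCp139
  · exact cPCp140
  · exact cPCp141
  · exact cPCp142
  · exact cPCp143
  · exact cPCp144
  · exact cPCp145
  · exact cPCp146
  · exact cPCp147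
  · exact cPCp148
  · exact cPCp149
  · exact cPCp150
  · exact cPCp151
  · exact cPCp152
  · exact cPCp153
  · exact cPCp154
  · exact cPCp155
  · exact cPCp156
  · exact cPCp157
  · exact cPCp158
  · exact cPCp159
  · exact cPCp160
  · exact cPCp161
  · exact cPCp162
  · exact cPCp163
  · exact cPCp164
  · exact cPCp165
  · exact cPCp166
  · exact cPCp167
  · exact cPCp168
  · exact cPCp169
  · exact cPCp170
  · exact cPCp171
  · exact cPCp172
  · exact cPCp173
  · exact cPCp174
  · exact cPCp175
  · exact cPCp176
  · exact cPCp177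
  · exact cPCp178
  · exact cPCp179
  · exact cPCp180
  · exact cPCp181
  · exact cPCp182
  · exact cPCp183
  · exact cPCp184
  · exact cPCp185
  · exact cPCp186
  · exact cPCp187
  · exact cPCp188
  · exact cPCp189
  · exact cPCp190
  · exact cPCp191
  · exact cPCp192
  · exact cPCp193
  · exact cPCp194
  · exact cPCp195
  · exact cPCp196
  · exact cPCp197
  · exact cPCp198
  · exact cPCp199
  · exact cPCp200
  · exact cPCp201
  · exact cPCp202
  · exact cPCp203
  · exact cPCp204
  · exact cPCp205
  · exact cPCp206
  · exact cPCp207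
  · exact cPCp208
  · exact cPCp209
  · exact cPCp210
  · exact cPCp211
  · exact cPCp212
  · exact cPCp213
  · exact cPCp214
  · exact cPCp215
  · exact cPCp216
  · exact cPCp217
  · exact cPCp218
  · exact cPCp219
  · exact cPCp220
  · exact cPCp221
  · exact cPCp222
  · exact cPCp223
  · exact cPCp224
  · exact cPCp225
  · exact cPCp226
  · exact cPCp227
  · exact cPCp228
  · exact cPCp229
  · exact cPCp230
  · exact cPCp231
  · exact cPCp232
  · exact cPCp233
  · exact cPCp234
  · exact cPCp235
  · exact cPCp236
  · exact cPCp237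
  · exact cPCp238
  · exact cPCp239
  · exact cPCp240
  · exact cPCp241
  · exact cPCp242
  · exact cPCp243
  · exact cPCp244
  · exact cPCp245
  · exact cPCp246
  · exact cPCp247
  · exact cPCp248
  · exact cPCp249
  · exact cPCp250
  · exact cPCp251
  · exact cPCp252
  · exact cPCp253
  · exact cPCp254
  · exact cPCp255
  · exact cPCp256
  · exact cPCp257
  · exact cPCp258
  · exact cPCp259
  · exact cPCp260
  · exact cPCp261
  · exact cPCp262
  · exact cPCp263
  · exact cPCp264
  · exact cPCp265
  · exact cPCp266
  · exact cPCp267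
  · exact cPCp268
  · exact cPCp269
  · exact cPCp270
  · exact cPCp271
  · exact cPCp272
  · exact cPCp273
  · exact cPCp274
  · exact cPCp275
  · exact cPCp276
  · exact cPCp277
  · exact cPCp278
  · exact cPCp279
  · exact cPCp280
  · exact cPCp281
  · exact cPCp282
  · exact cPCp283
  · exact cPCp284
  · exact cPCp285
  · exact cPCp286
  · exact cPCp287
  · exact cPCp288
  · exact cPCp289
  · exact cPCp290
  · exact cPCp291
  · exact cPCp292
  · exact cPCp293
  · exact cPCp294
  · exact cPCp295
  · exact cPCp296
  · exact cPCp297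
  · exact cPCp298
  · exact cPCp299
  · exact cPCp300
  · exact cPCp301
  · exact cPCp302
  · exact cPCp303
  · exact cPCp304
  · exact cPCp305
  · exact cPCp306


theorem blk (i : ℕ) (hi : i < 306936) : i / 1000 < 307 ∧ i / 1000 * 1000 ≤ i ∧ i < i / 1000 * 1000 + 1000 := by
  refine ⟨by omega, Nat.div_mul_le_self i 1000, by omega⟩

theorem inv_all : ∀ i, i < 306936 → ∀ l, l < 12 →
    Cfsg.Agent.Helper19.Fi24P.ent i l % 524288 < 306936 ∧ Cfsg.Agent.Helper19.Fi24P.ent (Cfsg.Agent.Helper19.Fi24P.ent i l % 524288) l % 524288 = i := by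
  intro i hi
  obtain ⟨h0, h1, h2⟩ := blk i hi
  exact invRows_spec 12 _ _ (cPInv_all _ h0) i h1 h2 hi

theorem par_all : ∀ j, 0 < j → j < 306936 →
    Cfsg.Agent.Helper19.Fi24P.pletF j < 12 ∧ Cfsg.Agent.Helper19.Fi24P.ent (Cfsg.Agent.Helper19.Fi24P.parF j) (Cfsg.Agent.Helper19.Fi24P.pletF j) % 524288 = j := by
  intro j hj0 hj
  obtain ⟨h0, h1, h2⟩ := blk j hj
  exact parRows_spec 12 _ _ _ _ (cPPar_all _ h0) j h1 h2 hj0 hj

theorem cox_all : ∀ i, i < 306936 → ∀ w ∈ coxWords, evalw 524288 Cfsg.Agent.Helper19.Fi24P.ent w i = i := by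
  intro i hi
  obtain ⟨h0, h1, h2⟩ := blk i hi
  exact fixRows_spec coxWords _ _ (cPCox_all _ h0) i h1 h2 hi

theorem za_all : ∀ i, i < 306936 → evalw 524288 Cfsg.Agent.Helper19.Fi24P.ent zw i = Wz i := by
  intro i hi
  obtain ⟨h0, h1, h2⟩ := blk i hi
  exact auxRows_spec zw _ _ (cPZa_all _ h0) i h1 h2 hi

theorem zp_all : ∀ i, i < 306936 → Wz^[17] i = i := by
  intro i hi
  obtain ⟨h0, h1, h2⟩ := blk i hi
  exact powRows_spec 17 Tid _ _ (cPZp_all _ h0) i h1 h2 hi

theorem ca_all : ∀ i, i < 306936 → evalw 524288 Cfsg.Agent.Helper19.Fi24P.ent cw i = Wc i := by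
  intro i hi
  obtain ⟨h0, h1, h2⟩ := blk i hi
  exact auxRows_spec cw _ _ (cPCa_all _ h0) i h1 h2 hi

theorem cp_all : ∀ i, i < 306936 → Wc^[9] i = Cfsg.Agent.Helper19.Fi24P.ent i 0 % 524288 := by
  intro i hi
  obtain ⟨h0, h1, h2⟩ := blk i hi
  exact powRows_spec 9 T0 _ _ (cPCp_all _ h0) i h1 h2 hi

end Cfsg.Agent.Helper19.Fi24Q
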