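import Cfsg.Agent.Helper19.Fi24Q.AuxT

set_option autoImplicit false
set_option linter.all false
set_option maxRecDepth 1000000
set_option maxHeartbeats 0

namespace Cfsg.Agent.Helper19.Fi24Q

theorem cPInv48 : PInv (48 * 1000) 1000 := by decide +kernel
theorem cPPar48 : PPar (48 * 1000) 1000 := by decide +kernel
theorem cPCox48 : PCox (48 * 1000) 1000 := by decide +kernel
theorem cPZa48 : PZa (48 * 1000) 1000 := by decide +kernel
theorem cPZp48 : PZp (48 * 1000) 1000 := by decide +kernel
theorem cPCa48 : PCa (48 * 1000) 1000 := by decide +kernel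
theorem cPCp48 : PCp (48 * 1000) 1000 := by decide +kernel
theorem cPInv49 : PInv (49 * 1000) 1000 := by decide +kernel
theorem cPPar49 : PPar (49 * 1000) 1000 := by decide +kernel
theorem cPCox49 : PCox (49 * 1000) 1000 := by decide +kernel
theorem cPZa49 : PZa (49 * 1000) 1000 := by decide +kernel
theorem cPZp49 : PZp (49 * 1000) 1000 := by decide +kernel
theorem cPCa49 : PCa (49 * 1000) 1000 := by decide +kernel
theorem cPCp49 : PCp (49 * 1000) 1000 := by decide +kernel
theorem cPInv50 : PInv (50 * 1000) 1000 := by decide +kernel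
theorem cPPar50 : PPar (50 * 1000) 1000 := by decide +kernel
theorem cPCox50 : PCox (50 * 1000) 1000 := by decide +kernel
theorem cPZa50 : PZa (50 * 1000) 1000 := by decide +kernel
theorem cPZp50 : PZp (50 * 1000) 1000 := by decide +kernel
theorem cPCa50 : PCa (50 * 1000) 1000 := by decide +kernel
theorem cPCp50 : PCp (50 * 1000) 1000 := by decide +kernel
theorem cPInv51 : PInv (51 * 1000) 1000 := by decide +kernel
theorem cPPar51 : PPar (51 * 1000) 1000 := by decide +kernel
theorem cPCox51 : PCox (51 * 1000) 1000 := by decide +kernel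
theorem cPZa51 : PZa (51 * 1000) 1000 := by decide +kernel
theorem cPZp51 : PZp (51 * 1000) 1000 := by decide +kernel
theorem cPCa51 : PCa (51 * 1000) 1000 := by decide +kernel
theorem cPCp51 : PCp (51 * 1000) 1000 := by decide +kernel

end Cfsg.Agent.Helper19.Fi24Q
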