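import Cfsg.Agent.Helper19.Fi24Q.AuxT

set_option autoImplicit false
set_option linter.all false
set_option maxRecDepth 1000000
set_option maxHeartbeats 0

namespace Cfsg.Agent.Helper19.Fi24Q

theorem cPInv104 : PInv (104 * 1000) 1000 := by decide +kernel
theorem cPPar104 : PPar (104 * 1000) 1000 := by decide +kernel
theorem cPCox104 : PCox (104 * 1000) 1000 := by decide +kernel
theorem cPZa104 : PZa (104 * 1000) 1000 := by decide +kernel
theorem cPZp104 : PZp (104 * 1000) 1000 := by decide +kernel
theorem cPCa104 : PCa (104 * 1000) 1000 := by decide +kernel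
theorem cPCp104 : PCp (104 * 1000) 1000 := by decide +kernel
theorem cPInv105 : PInv (105 * 1000) 1000 := by decide +kernel
theorem cPPar105 : PPar (105 * 1000) 1000 := by decide +kernel
theorem cPCox105 : PCox (105 * 1000) 1000 := by decide +kernel
theorem cPZa105 : PZa (105 * 1000) 1000 := by decide +kernel
theorem cPZp105 : PZp (105 * 1000) 1000 := by decide +kernel
theorem cPCa105 : PCa (105 * 1000) 1000 := by decide +kernel
theorem cPCp105 : PCp (105 * 1000) 1000 := by decide +kernel
theorem cPInv106 : PInv (106 * 1000) 1000 := by decide +kernel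
theorem cPPar106 : PPar (106 * 1000) 1000 := by decide +kernel
theorem cPCox106 : PCox (106 * 1000) 1000 := by decide +kernel
theorem cPZa106 : PZa (106 * 1000) 1000 := by decide +kernel
theorem cPZp106 : PZp (106 * 1000) 1000 := by decide +kernel
theorem cPCa106 : PCa (106 * 1000) 1000 := by decide +kernel
theorem cPCp106 : PCp (106 * 1000) 1000 := by decide +kernel
theorem cPInv107 : PInv (107 * 1000) 1000 := by decide +kernel
theorem cPPar107 : PPar (107 * 1000) 1000 := by decide +kernel
theorem cPCox107 : PCox (107 * 1000) 1000 := by decide +kernel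
theorem cPZa107 : PZa (107 * 1000) 1000 := by decide +kernel
theorem cPZp107 : PZp (107 * 1000) 1000 := by decide +kernel
theorem cPCa107 : PCa (107 * 1000) 1000 := by decide +kernel
theorem cPCp107 : PCp (107 * 1000) 1000 := by decide +kernel

end Cfsg.Agent.Helper19.Fi24Q
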