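import Cfsg.Agent.Helper19.Fi24Q.AuxT

set_option autoImplicit false
set_option linter.all false
set_option maxRecDepth 1000000
set_option maxHeartbeats 0

namespace Cfsg.Agent.Helper19.Fi24Q

theorem cPInv160 : PInv (160 * 1000) 1000 := by decide +kernel
theorem cPPar160 : PPar (160 * 1000) 1000 := by decide +kernel
theorem cPCox160 : PCox (160 * 1000) 1000 := by decide +kernel
theorem cPZa160 : PZa (160 * 1000) 1000 := by decide +kernel
theorem cPZp160 : PZp (160 * 1000) 1000 := by decide +kernel
theorem cPCa160 : PCa (160 * 1000) 1000 := by decide +kernel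
theorem cPCp160 : PCp (160 * 1000) 1000 := by decide +kernel
theorem cPInv161 : PInv (161 * 1000) 1000 := by decide +kernel
theorem cPPar161 : PPar (161 * 1000) 1000 := by decide +kernel
theorem cPCox161 : PCox (161 * 1000) 1000 := by decide +kernel
theorem cPZa161 : PZa (161 * 1000) 1000 := by decide +kernel
theorem cPZp161 : PZp (161 * 1000) 1000 := by decide +kernel
theorem cPCa161 : PCa (161 * 1000) 1000 := by decide +kernel
theorem cPCp161 : PCp (161 * 1000) 1000 := by decide +kernel
theorem cPInv162 : PInv (162 * 1000) 1000 := by decide +kernel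
theorem cPPar162 : PPar (162 * 1000) 1000 := by decide +kernel
theorem cPCox162 : PCox (162 * 1000) 1000 := by decide +kernel
theorem cPZa162 : PZa (162 * 1000) 1000 := by decide +kernel
theorem cPZp162 : PZp (162 * 1000) 1000 := by decide +kernel
theorem cPCa162 : PCa (162 * 1000) 1000 := by decide +kernel
theorem cPCp162 : PCp (162 * 1000) 1000 := by decide +kernel
theorem cPInv163 : PInv (163 * 1000) 1000 := by decide +kernel
theorem cPPar163 : PPar (163 * 1000) 1000 := by decide +kernel
theorem cPCox163 : PCox (163 * 1000) 1000 := by decide +kernel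
theorem cPZa163 : PZa (163 * 1000) 1000 := by decide +kernel
theorem cPZp163 : PZp (163 * 1000) 1000 := by decide +kernel
theorem cPCa163 : PCa (163 * 1000) 1000 := by decide +kernel
theorem cPCp163 : PCp (163 * 1000) 1000 := by decide +kernel

end Cfsg.Agent.Helper19.Fi24Q
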