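import Cfsg.Agent.Helper19.Fi24Q.AuxT

set_option autoImplicit false
set_option linter.all false
set_option maxRecDepth 1000000
set_option maxHeartbeats 0

namespace Cfsg.Agent.Helper19.Fi24Q

theorem cPInv216 : PInv (216 * 1000) 1000 := by decide +kernel
theorem cPPar216 : PPar (216 * 1000) 1000 := by decide +kernel
theorem cPCox216 : PCox (216 * 1000) 1000 := by decide +kernel
theorem cPZa216 : PZa (216 * 1000) 1000 := by decide +kernel
theorem cPZp216 : PZp (216 * 1000) 1000 := by decide +kernel
theorem cPCa216 : PCa (216 * 1000) 1000 := by decide +kernel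
theorem cPCp216 : PCp (216 * 1000) 1000 := by decide +kernel
theorem cPInv217 : PInv (217 * 1000) 1000 := by decide +kernel
theorem cPPar217 : PPar (217 * 1000) 1000 := by decide +kernel
theorem cPCox217 : PCox (217 * 1000) 1000 := by decide +kernel
theorem cPZa217 : PZa (217 * 1000) 1000 := by decide +kernel
theorem cPZp217 : PZp (217 * 1000) 1000 := by decide +kernel
theorem cPCa217 : PCa (217 * 1000) 1000 := by decide +kernel
theorem cPCp217 : PCp (217 * 1000) 1000 := by decide +kernel
theorem cPInv218 : PInv (218 * 1000) 1000 := by decide +kernel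
theorem cPPar218 : PPar (218 * 1000) 1000 := by decide +kernel
theorem cPCox218 : PCox (218 * 1000) 1000 := by decide +kernel
theorem cPZa218 : PZa (218 * 1000) 1000 := by decide +kernel
theorem cPZp218 : PZp (218 * 1000) 1000 := by decide +kernel
theorem cPCa218 : PCa (218 * 1000) 1000 := by decide +kernel
theorem cPCp218 : PCp (218 * 1000) 1000 := by decide +kernel
theorem cPInv219 : PInv (219 * 1000) 1000 := by decide +kernel
theorem cPPar219 : PPar (219 * 1000) 1000 := by decide +kernel
theorem cPCox219 : PCox (219 * 1000) 1000 := by decide +kernel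
theorem cPZa219 : PZa (219 * 1000) 1000 := by decide +kernel
theorem cPZp219 : PZp (219 * 1000) 1000 := by decide +kernel
theorem cPCa219 : PCa (219 * 1000) 1000 := by decide +kernel
theorem cPCp219 : PCp (219 * 1000) 1000 := by decide +kernel

end Cfsg.Agent.Helper19.Fi24Q
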