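import Cfsg.Agent.Helper19.Fi24Q.AuxT

set_option autoImplicit false
set_option linter.all false
set_option maxRecDepth 1000000
set_option maxHeartbeats 0

namespace Cfsg.Agent.Helper19.Fi24Q

theorem cPInv272 : PInv (272 * 1000) 1000 := by decide +kernel
theorem cPPar272 : PPar (272 * 1000) 1000 := by decide +kernel
theorem cPCox272 : PCox (272 * 1000) 1000 := by decide +kernel
theorem cPZa272 : PZa (272 * 1000) 1000 := by decide +kernel
theorem cPZp272 : PZp (272 * 1000) 1000 := by decide +kernel
theorem cPCa272 : PCa (272 * 1000) 1000 := by decide +kernel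
theorem cPCp272 : PCp (272 * 1000) 1000 := by decide +kernel
theorem cPInv273 : PInv (273 * 1000) 1000 := by decide +kernel
theorem cPPar273 : PPar (273 * 1000) 1000 := by decide +kernel
theorem cPCox273 : PCox (273 * 1000) 1000 := by decide +kernel
theorem cPZa273 : PZa (273 * 1000) 1000 := by decide +kernel
theorem cPZp273 : PZp (273 * 1000) 1000 := by decide +kernel
theorem cPCa273 : PCa (273 * 1000) 1000 := by decide +kernel
theorem cPCp273 : PCp (273 * 1000) 1000 := by decide +kernel
theorem cPInv274 : PInv (274 * 1000) 1000 := by decide +kernel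
theorem cPPar274 : PPar (274 * 1000) 1000 := by decide +kernel
theorem cPCox274 : PCox (274 * 1000) 1000 := by decide +kernel
theorem cPZa274 : PZa (274 * 1000) 1000 := by decide +kernel
theorem cPZp274 : PZp (274 * 1000) 1000 := by decide +kernel
theorem cPCa274 : PCa (274 * 1000) 1000 := by decide +kernel
theorem cPCp274 : PCp (274 * 1000) 1000 := by decide +kernel
theorem cPInv275 : PInv (275 * 1000) 1000 := by decide +kernel
theorem cPPar275 : PPar (275 * 1000) 1000 := by decide +kernel
theorem cPCox275 : PCox (275 * 1000) 1000 := by decide +kernel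
theorem cPZa275 : PZa (275 * 1000) 1000 := by decide +kernel
theorem cPZp275 : PZp (275 * 1000) 1000 := by decide +kernel
theorem cPCa275 : PCa (275 * 1000) 1000 := by decide +kernel
theorem cPCp275 : PCp (275 * 1000) 1000 := by decide +kernel

end Cfsg.Agent.Helper19.Fi24Q
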